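import Cfsg.Agent.Lib.SelfCentFour.Assemble
import Cfsg.Agent.Lib.Involution.SelfCentNoncyclicMain
import Cfsg.Agent.Lib.Involution.QDFusionTheorems
import Cfsg.Agent.Lib.Fusion.ThompsonTransfer
import Cfsg.Agent.Lib.Char.Perm
import Cfsg.Agent.S0112
import Cfsg.Agent.S0113
import Cfsg.Agent.S0494
import Cfsg.Agent.S0646
import Cfsg.Agent.S3331
import Cfsg.Agent.Lib.TwoGroups.CyclicMax

/-!
# Simple groups with an element whose centraliser has order at most four
-/

set_option autoImplicit false
set_option linter.unusedSectionVars false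

namespace CfsgLib.SelfCentFour

open CfsgLib CfsgLib.Involution CfsgLib.Involution.DihedralSylow CfsgLib.SmallGroups
open scoped _root_.Classical

variable {G : Type*} [Group G] [Finite G] [IsSimpleGroup G]

theorem not_index_two (hG : ¬ IsMulCommutative G) (H : Subgroup G) : H.index ≠ 2 := by
  intro hH
  have hn := Subgroup.normal_of_index_eq_two hH
  rcases hn.eq_bot_or_eq_top with e | e
  · rw [e, Subgroup.index_bot] at hH
    have := isCyclic_of_prime_card hH
    exact hG ⟨⟨fun a b => (IsCyclic.commGroup (α := G)).mul_comm a b⟩⟩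
  · rw [e, Subgroup.index_top] at hH; omega

/-- A simple group whose Sylow `2`-subgroup is a four-group and the centraliser of an involution. -/
theorem klein_case (hG : ¬ IsMulCommutative G) (P : Sylow 2 G) {t u : G} (ht : orderOf t = 2)
    (hu : orderOf u = 2) (htP : t ∈ (P : Subgroup G)) (huP : u ∈ (P : Subgroup G)) (hut : u ≠ t)
    (hcard : Nat.card (P : Subgroup G) = 4) {w : G} (hw : orderOf w = 2)
    (hC : Nat.card (Subgroup.centralizer ({w} : Set G)) = 4) : Nat.card G = 60 := by
  have : Fact (Nat.Prime 2) := ⟨Nat.prime_two⟩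
  have htt : t * t = 1 := Dihedral.mul_self ht
  have huu : u * u = 1 := Dihedral.mul_self hu
  have hcomm : IsMulCommutative (P : Subgroup G) :=
    IsPGroup.isMulCommutative_of_card_eq_prime_sq (p := 2) (by rw [hcard]; norm_num)
  have hPc : ∀ {a c : G}, a ∈ (P : Subgroup G) → c ∈ (P : Subgroup G) → Commute a c := fun {a c} ha hc =>
    congrArg Subtype.val (hcomm.is_comm.comm ⟨a, ha⟩ ⟨c, hc⟩)
  have hV : fourGroup t u htt huu (hPc htP huP).eq = (P : Subgroup G) := by
    refine Subgroup.eq_of_le_of_card_ge (fun x hx => ?_) ?_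
    · rcases mem_fourGroup.1 hx with rfl | rfl | rfl | rfl
      exacts [one_mem _, htP, huP, mul_mem htP huP]
    · rw [hcard]
      have htu : t * u ≠ 1 := fun e => hut ((eq_inv_of_mul_eq_one_right e).trans (inv_eq_of_mul_eq_one_right htt))
      have h4 : ({1, t, u, t * u} : Finset G).card = 4 := by
        rw [Finset.card_insert_of_notMem (by simp [(Dihedral.ne_one ht).symm, (Dihedral.ne_one hu).symm, htu.symm]),
          Finset.card_insert_of_notMem (by simp [hut.symm, Dihedral.ne_one hu]),
          Finset.card_pair (by simp [Dihedral.ne_one ht])]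
      rw [← h4, ← Nat.card_eq_finsetCard]
      refine Nat.card_le_card_of_injective (fun x => ⟨x.1, ?_⟩) fun a c e => Subtype.ext (congrArg Subtype.val e :)
      have := x.2
      simp only [Finset.mem_insert, Finset.mem_singleton] at this
      exact mem_fourGroup.2 this
  have hcases : ∀ x ∈ (P : Subgroup G), x = 1 ∨ x = t ∨ x = u ∨ x = t * u := fun x hx =>
    mem_fourGroup.1 (hV.symm ▸ hx)
  have gen : Gen (P : Subgroup G) t u 0 :=
    { amem := htP
      bmem := huP
      ord := by rw [ht]; norm_num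
      bb := huu
      nb := fun h => by
        obtain ⟨i, hi⟩ := Subgroup.mem_zpowers_iff.1 h
        rw [← zpow_mod_orderOf, ht] at hi
        rcases Int.emod_two_eq_zero_or_one i with e | e <;> simp [e] at hi
        · exact Dihedral.ne_one hu hi.symm
        · exact hut hi.symm
      conj := by
        rw [inv_eq_of_mul_eq_one_right htt, (hPc huP htP).eq, mul_inv_cancel_right]
      cases := fun x hx => by
        rcases hcases x hx with rfl | rfl | rfl | rfl
        · exact Or.inl ⟨0, by simp⟩
        · exact Or.inl ⟨1, by simp⟩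
        · exact Or.inr ⟨0, by simp⟩
        · exact Or.inr ⟨1, by simp⟩ }
  have hone : ∀ a b : G, orderOf a = 2 → orderOf b = 2 → IsConj a b :=
    all_conj_of_no_index_two gen (not_index_two hG)
  have hCt : Nat.card (Subgroup.centralizer ({t} : Set G)) = 4 := by
    haveI := Fintype.ofFinite G
    rw [CfsgLib.Char.card_centralizer_eq_of_isConj (hone t w ht hw), hC]
  have hPC : (P : Subgroup G) = Subgroup.centralizer ({t} : Set G) :=
    Subgroup.eq_of_le_of_card_ge (fun x hx => Subgroup.mem_centralizer_singleton_iff.2 (hPc hx htP).eq)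
      (by rw [hCt, hcard])
  have hCP : Nat.card (Subgroup.centralizer ((P : Subgroup G) : Set G)) = 4 := by
    have : Subgroup.centralizer ((P : Subgroup G) : Set G) = (P : Subgroup G) := by
      refine le_antisymm (fun x hx => ?_) (fun x hx => Subgroup.mem_centralizer_iff.2 fun y hy => (hPc hy hx).eq)
      rw [hPC]
      exact Subgroup.mem_centralizer_singleton_iff.2 (Subgroup.mem_centralizer_iff.1 hx t htP).symm
    rw [this, hcard]
  have hklein : IsKleinFour (P : Subgroup G) := by
    refine ⟨hcard, ?_⟩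
    have hdvd : Monoid.exponent (P : Subgroup G) ∣ 2 := by
      refine Monoid.exponent_dvd_of_forall_pow_eq_one fun v => Subtype.ext ?_
      push_cast
      rcases hcases v v.2 with e | e | e | e <;> rw [e, pow_two]
      · exact one_mul 1
      · exact htt
      · exact huu
      · rw [(hPc huP htP).mul_mul_mul_comm t u, htt, huu, one_mul]
    rcases (Nat.dvd_prime Nat.prime_two).1 hdvd with e | e
    · have := Monoid.exp_eq_one_iff.1 e
      have h1' : Nat.card (P : Subgroup G) = 1 := Nat.card_of_subsingleton 1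
      omega
    · exact e
  obtain ⟨g₀, hg₀⟩ : 4 ∣ Nat.card G := hcard ▸ Subgroup.card_subgroup_dvd_card _
  have hg₀o : Odd g₀ := by
    rw [Nat.odd_iff, ← Nat.two_dvd_ne_zero]
    intro h
    apply P.not_dvd_index
    have h' := (P : Subgroup G).index_mul_card
    rw [hcard, hg₀] at h'
    rwa [show (P : Subgroup G).index = g₀ by omega]
  have hnc : ¬ ∃ N : Subgroup G, N.Normal ∧ Nat.card N = g₀ := by
    rintro ⟨N, hN, hNc⟩
    rcases hN.eq_bot_or_eq_top with e | e
    · rw [e, Subgroup.card_bot] at hNc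
      rw [← hNc] at hg₀
      have : IsMulCommutative G :=
        IsPGroup.isMulCommutative_of_card_eq_prime_sq (p := 2) (by rw [hg₀]; norm_num)
      exact hG this
    · rw [e, Subgroup.card_top, hg₀] at hNc
      have := hg₀o.pos
      omega
  haveI := Fintype.ofFinite G
  obtain ⟨M, hM⟩ := DegreeTools.TISum.exists_pmodular (p := 2) Nat.prime_two
  obtain ⟨ζ₂, ζ₃, ζ₄, ε, hε, n2, n3, h23, h24, h34, hB, hval, c2, c3, c4, hrel⟩ :=
    Cfsg.Agent.S0948.result M hM P hklein hone
  have n4 : (ζ₄ : G → ℂ) ≠ fun _ => 1 := fun e => by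
    have h := (hval _ ht).2.2
    rw [e] at h
    norm_num at h
  have hform := Cfsg.Agent.S4479.result M hM g₀ hg₀o hg₀ hnc P t htP ht ζ₂ ζ₃ ζ₄ 1 ε (-1) hB
    ⟨n2, n3, n4, h23, h24, h34⟩ ⟨Or.inl rfl, hε, Or.inr rfl⟩
    ⟨by simpa using (hval _ ht).1, (hval _ ht).2.1, by simpa using (hval _ ht).2.2⟩
  rw [hCt, hCP] at hform
  have hr := hrel 1 (by simp)
  rw [Blocks.irr_one_eq, Blocks.irr_one_eq, Blocks.irr_one_eq] at hr
  have hsum : 1 + (Cfsg.charDegree (ζ₂ : G → ℂ) : ℤ) + ε * Cfsg.charDegree (ζ₃ : G → ℂ)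
      - Cfsg.charDegree (ζ₄ : G → ℂ) = 0 := by exact_mod_cast hr
  have hsq : 1 + Cfsg.charDegree (ζ₂ : G → ℂ) ^ 2 + Cfsg.charDegree (ζ₃ : G → ℂ) ^ 2
      + Cfsg.charDegree (ζ₄ : G → ℂ) ^ 2 ≤ Nat.card G := by
    have h := Char.sum_sq_apply_one (G := G)
    simp only [Blocks.irr_one_eq] at h
    have h' : ∑ ψ : Cfsg.IrrCharacter G, Cfsg.charDegree (ψ : G → ℂ) ^ 2 = Nat.card G := by exact_mod_cast h
    rw [← h']
    have hne0 : ∀ {χ : Cfsg.IrrCharacter G}, (χ : G → ℂ) ≠ (fun _ => 1) → Blocks.trivChar _ ≠ χ :=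
      fun {χ} hχ e => hχ (by rw [← e]; rfl)
    refine le_trans (le_of_eq ?_) (Finset.sum_le_sum_of_subset (Finset.subset_univ
      ({Blocks.trivChar G, ζ₂, ζ₃, ζ₄} : Finset (Cfsg.IrrCharacter G))))
    rw [Finset.sum_insert (by simp [hne0 n2, hne0 n3, hne0 n4]), Finset.sum_insert (by simp [h23, h24]),
      Finset.sum_pair h34]
    have : Cfsg.charDegree ((Blocks.trivChar G : Cfsg.IrrCharacter G) : G → ℂ) = 1 := by
      simp [Cfsg.charDegree, Blocks.trivChar]
    rw [this]; ring
  rcases (klein_numbers (k := 1) _ _ _ ε hε (Blocks.charDegree_pos ζ₂) (Blocks.charDegree_pos ζ₃)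
    (Blocks.charDegree_pos ζ₄) c2 c3 c4 hsum hsq (by rw [hform]; push_cast; ring)).2 rfl with h | h
  · exfalso
    have hidx : (P : Subgroup G).index = 3 := by
      have h' := (P : Subgroup G).index_mul_card
      rw [hcard, h] at h'
      omega
    have hd := SimpleTools.two_mul_card_dvd_factorial hG (P : Subgroup G) fun e => by
      rw [e, Subgroup.index_top] at hidx; omega
    rw [hidx, h] at hd
    revert hd
    decide
  · exact h

/-- A self-centralising element of order four lies in a dihedral Sylow subgroup of order eight. -/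
theorem exists_gen_of_four (hG : ¬ IsMulCommutative G) (S : Sylow 2 G) {w : G} (hwS : w ∈ (S : Subgroup G))
    (ho : orderOf w = 4) (hC : Subgroup.centralizer ({w} : Set G) = Subgroup.zpowers w) {n : ℕ}
    (hn : Nat.card (S : Subgroup G) = 2 ^ n) (hn3 : 3 ≤ n) (C : Subgroup (S : Subgroup G)) (hC1 : IsCyclic C)
    (hC2 : C.index = 2) :
    ∃ σ τ : G, Gen (S : Subgroup G) σ τ 1 ∧ ∀ x : G, Commute x σ → x ∈ Subgroup.zpowers σ := by
  have : Fact (Nat.Prime 2) := ⟨Nat.prime_two⟩
  have hC4 : Nat.card (Subgroup.centralizer ({w} : Set G)) = 4 := by rw [hC, Nat.card_zpowers, ho]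
  set sw : (S : Subgroup G) := ⟨w, hwS⟩ with hswd
  have hw4 : orderOf sw = 4 := by rw [hswd, Subgroup.orderOf_mk, ho]
  have hcomm4 : ∀ {s : (S : Subgroup G)}, Commute s sw → ∃ j : ℤ, s = sw ^ j := by
    intro s hs
    have hm : (s : G) ∈ Subgroup.centralizer ({w} : Set G) :=
      Subgroup.mem_centralizer_singleton_iff.2 (congrArg Subtype.val hs.eq)
    obtain ⟨j, hj⟩ := Subgroup.mem_zpowers_iff.1 (hC ▸ hm)
    exact ⟨j, Subtype.ext (by push_cast; rw [hswd]; exact hj.symm)⟩
  have hna : ∃ a b : (S : Subgroup G), a * b ≠ b * a := by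
    by_contra h
    push Not at h
    have hle : Nat.card (S : Subgroup G) ≤ 4 := by
      rw [← hC4]
      exact Nat.le_of_dvd Nat.card_pos (Subgroup.card_dvd_of_le fun s hs =>
        Subgroup.mem_centralizer_singleton_iff.2 (congrArg Subtype.val (h ⟨s, hs⟩ sw)))
    have : 2 ^ 3 ≤ 2 ^ n := Nat.pow_le_pow_right (by norm_num) hn3
    omega
  obtain ⟨a, b, ha, hb, hrel⟩ := Cfsg.Agent.S0646.result n hn3 hn C hC1 hC2 hna
  -- a power of `a` commuting with `w` has order dividing four
  have hrot : ∀ {s : (S : Subgroup G)}, Commute s sw → orderOf s ≤ 4 := by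
    intro s hs
    obtain ⟨j, rfl⟩ := hcomm4 hs
    refine (Nat.le_of_dvd (by norm_num) ?_)
    rw [← hw4]
    exact orderOf_dvd_of_pow_eq_one (by rw [← zpow_natCast, ← zpow_mul, mul_comm, zpow_mul, zpow_natCast,
      pow_orderOf_eq_one, one_zpow])
  have h4n : 4 ≤ 2 ^ (n - 1) := by
    calc 4 = 2 ^ 2 := rfl
      _ ≤ 2 ^ (n - 1) := Nat.pow_le_pow_right (by norm_num) (by omega)
  have hidx : (Subgroup.zpowers a).index = 2 := by
    have h := (Subgroup.zpowers a).index_mul_card
    rw [Nat.card_zpowers, ha, hn, show n = n - 1 + 1 by omega, pow_succ', Nat.add_sub_cancel] at h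
    exact Nat.eq_of_mul_eq_mul_right (pow_pos two_pos _) h
  have hnorm : ∀ s : (S : Subgroup G), (∃ i : ℤ, s = a ^ i) ∨ ∃ i : ℤ, s = a ^ i * b := by
    intro s
    by_cases hs : s ∈ Subgroup.zpowers a
    · obtain ⟨i, hi⟩ := Subgroup.mem_zpowers_iff.1 hs
      exact Or.inl ⟨i, hi.symm⟩
    · have hsb : s * b⁻¹ ∈ Subgroup.zpowers a := by
        rw [Subgroup.mul_mem_iff_of_index_two hidx]
        exact iff_of_false hs fun h => hb (inv_mem_iff.1 h)
      obtain ⟨i, hi⟩ := Subgroup.mem_zpowers_iff.1 hsb
      exact Or.inr ⟨i, by rw [hi, inv_mul_cancel_right]⟩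
  have hnsq : ∀ {i : ℤ}, b * a * b⁻¹ = a⁻¹ → (a ^ i * b) * (a ^ i * b) = b * b := by
    intro i hc
    have h1 : b * a ^ i * b⁻¹ = (a ^ i)⁻¹ := by rw [← conj_zpow, hc, inv_zpow]
    calc a ^ i * b * (a ^ i * b) = a ^ i * (b * a ^ i * b⁻¹) * (b * b) := by group
      _ = b * b := by rw [h1, mul_inv_cancel, one_mul]
  rcases hrel with ⟨hb2, hc⟩ | ⟨hb2, hc⟩ | ⟨hn4, hb2, hc⟩ | ⟨hn4, hb2, hc⟩
  · -- dihedral
    have hbb : b * b = 1 := by rw [← pow_two, hb2]
    rcases hnorm sw with ⟨i, hi⟩ | ⟨i, hi⟩
    swap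
    · exfalso
      have h : sw * sw = 1 := by rw [hi, hnsq hc, hbb]
      have := orderOf_dvd_of_pow_eq_one (show sw ^ 2 = 1 by rw [pow_two, h])
      rw [hw4] at this
      norm_num at this
    have hale := hrot (show Commute a sw from hi ▸ Commute.self_zpow a i)
    rw [ha] at hale
    have hn' : n = 3 := by
      by_contra hne
      have : 2 ^ 3 ≤ 2 ^ (n - 1) := Nat.pow_le_pow_right (by norm_num) (by omega)
      omega
    have ha4 : orderOf (a : G) = 4 := by rw [Subgroup.orderOf_coe, ha, hn']; rfl
    refine ⟨(a : G), (b : G), ⟨a.2, b.2, by rw [ha4]; norm_num, congrArg Subtype.val hbb, ?_, ?_, ?_⟩, ?_⟩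
    · intro h
      obtain ⟨j, hj⟩ := Subgroup.mem_zpowers_iff.1 h
      exact hb (Subgroup.mem_zpowers_iff.2 ⟨j, Subtype.ext (by push_cast; exact hj)⟩)
    · have := congrArg Subtype.val hc
      push_cast at this
      exact this
    · intro x hx
      rcases hnorm ⟨x, hx⟩ with ⟨j, hj⟩ | ⟨j, hj⟩
      · exact Or.inl ⟨j, by have := congrArg Subtype.val hj; push_cast at this; exact this⟩
      · exact Or.inr ⟨j, by have := congrArg Subtype.val hj; push_cast at this; exact this⟩
    · intro x hx
      have hwa : w = (a : G) ^ i := by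
        have := congrArg Subtype.val hi
        push_cast at this
        exact this
      have hxw : x ∈ Subgroup.zpowers w :=
        hC ▸ Subgroup.mem_centralizer_singleton_iff.2 (hwa ▸ hx.zpow_right i).eq
      exact Subgroup.zpowers_le.2 (hwa ▸ Subgroup.mem_zpowers_iff.2 ⟨i, rfl⟩) hxw
  · -- generalised quaternion: one involution
    exfalso
    obtain ⟨t, u, ht, hu, htS, huS, hut, -⟩ := SelfCentNoncyclic.exists_two_involutions hG S
    have hkey : ∀ x : (S : Subgroup G), orderOf x = 2 → x = a ^ 2 ^ (n - 2) := by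
      intro x hx
      have hxx : x * x = 1 := Dihedral.mul_self hx
      rcases hnorm x with ⟨i, rfl⟩ | ⟨i, rfl⟩
      · have hd : ((2 ^ (n - 1) : ℕ) : ℤ) ∣ i + i := by
          rw [← ha]; exact orderOf_dvd_iff_zpow_eq_one.2 (by rw [zpow_add, hxx])
        rw [show n - 1 = n - 2 + 1 by omega, pow_succ'] at hd
        push_cast at hd
        obtain ⟨q, hq⟩ : (2 : ℤ) ^ (n - 2) ∣ i := by
          rw [← two_mul] at hd
          exact Int.dvd_of_mul_dvd_mul_left (by norm_num) hd
        rcases Int.even_or_odd q with ⟨r, rfl⟩ | ⟨r, rfl⟩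
        · exfalso
          refine Dihedral.ne_one hx ?_
          rw [hq, show (2 : ℤ) ^ (n - 2) * (r + r) = ((2 ^ (n - 1) : ℕ) : ℤ) * r by
            push_cast
            rw [show n - 1 = n - 2 + 1 by omega, pow_succ]; ring, zpow_mul, zpow_natCast, ← ha, pow_orderOf_eq_one,
            one_zpow]
        · rw [hq, show (2 : ℤ) ^ (n - 2) * (2 * r + 1) = ((2 ^ (n - 1) : ℕ) : ℤ) * r + ((2 ^ (n - 2) : ℕ) : ℤ) by
            push_cast
            rw [show n - 1 = n - 2 + 1 by omega, pow_succ]; ring, zpow_add, zpow_mul, zpow_natCast,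
            zpow_natCast, ← ha, pow_orderOf_eq_one, one_zpow, one_mul]
      · exfalso
        rw [hnsq hc, ← pow_two, hb2] at hxx
        have hd := orderOf_dvd_of_pow_eq_one hxx
        rw [ha] at hd
        have := Nat.le_of_dvd (pow_pos two_pos _) hd
        have : 2 ^ (n - 2) < 2 ^ (n - 1) := Nat.pow_lt_pow_right (by norm_num) (by omega)
        omega
    apply hut
    have e1 := hkey ⟨u, huS⟩ (by rw [Subgroup.orderOf_mk, hu])
    have e2 := hkey ⟨t, htS⟩ (by rw [Subgroup.orderOf_mk, ht])
    exact congrArg Subtype.val (e1.trans e2.symm)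
  · -- modular
    exfalso
    have h8 : 8 ≤ 2 ^ (n - 1) := by
      calc 8 = 2 ^ 3 := rfl
        _ ≤ 2 ^ (n - 1) := Nat.pow_le_pow_right (by norm_num) (by omega)
    have ha2 : Commute b (a ^ 2) := by
      refine mul_inv_eq_iff_eq_mul.1 ?_
      rw [← conj_pow, hc, ← pow_mul]
      have e : (1 + 2 ^ (n - 2)) * 2 = 2 + 2 ^ (n - 1) := by
        rw [show n - 1 = n - 2 + 1 by omega, pow_succ]; ring
      rw [e, pow_add, ← ha, pow_orderOf_eq_one, mul_one]
    have hcw : Commute (a ^ 2) sw := by
      rcases hnorm sw with ⟨i, hi⟩ | ⟨i, hi⟩ <;> rw [hi]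
      · exact ((Commute.refl a).pow_left 2).zpow_right i
      · exact (((Commute.refl a).pow_left 2).zpow_right i).mul_right ha2.symm
    rcases hnorm sw with ⟨i, hi⟩ | ⟨i, hi⟩
    · have := hrot (show Commute a sw from hi ▸ Commute.self_zpow a i)
      rw [ha] at this
      omega
    obtain ⟨j, hj⟩ := hcomm4 hcw
    have hord : 4 ≤ orderOf (a ^ 2) := by
      rw [orderOf_pow, ha, show n - 1 = n - 2 + 1 by omega, pow_succ', Nat.gcd_mul_right_left,
        Nat.mul_div_cancel_left _ (by norm_num : 0 < 2)]
      calc 4 = 2 ^ 2 := rfl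
        _ ≤ 2 ^ (n - 2) := Nat.pow_le_pow_right (by norm_num) (by omega)
    rcases Int.even_or_odd j with ⟨r, rfl⟩ | ⟨r, rfl⟩
    · have : (a ^ 2) ^ 2 = 1 := by
        rw [hj, ← zpow_natCast, ← zpow_mul, show (r + r) * ((2 : ℕ) : ℤ) = ((4 : ℕ) : ℤ) * r by push_cast; ring,
          zpow_mul, zpow_natCast, ← hw4, pow_orderOf_eq_one, one_zpow]
      have := Nat.le_of_dvd (by norm_num) (orderOf_dvd_of_pow_eq_one this)
      omega
    · refine (show sw ∉ Subgroup.zpowers a from fun h => hb ?_) ?_
      · rw [hi, Subgroup.mul_mem_cancel_left _ (zpow_mem (Subgroup.mem_zpowers a) i)] at h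
        exact h
      · have hmem : sw ^ (2 * r + 1) ∈ Subgroup.zpowers a := hj ▸ pow_mem (Subgroup.mem_zpowers a) 2
        have hsq : sw ^ (2 * r) ∈ Subgroup.zpowers a := by
          rw [zpow_mul, zpow_ofNat]
          refine _root_.zpow_mem ?_ r
          rw [pow_two]
          exact (Subgroup.mul_mem_iff_of_index_two hidx).2 Iff.rfl
        rwa [zpow_add, zpow_one, Subgroup.mul_mem_cancel_left _ hsq] at hmem
  · -- semidihedral: all elements of order four are conjugate
    exfalso
    have hbne : b ≠ 1 := fun e => hb (e ▸ one_mem _)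
    have hQD : Cfsg.IsQuasiDihedral (S : Subgroup G) := by
      refine ⟨n - 1, by omega, by rw [hn, Nat.sub_add_cancel (by omega : 1 ≤ n)], a, b, ha,
        orderOf_eq_prime hb2 hbne, ?_⟩
      rw [hc, show n - 1 - 1 = n - 2 by omega]
    obtain ⟨K, x, y, h, -⟩ := QuasiDihedral.exists_gen hQD
    have hKpos : 0 < K := QuasiDihedral.pos h
    have : NeZero K := ⟨by omega⟩
    have hF : QDFusion.FusedFour x y K := by
      by_contra hF'
      by_cases hF2 : QDFusion.FusedTwo x y K
      · -- a four-group
        have hycz : (y : G) * QDFusion.cz x K = QDFusion.cz x K * (y : G) := (QDFusion.cz_comm h y.2).eq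
        have hy2 : (y : G) * (y : G) = 1 := congrArg Subtype.val (QuasiDihedral.yy h)
        have hz2 := Dihedral.mul_self (QDFusion.cz_orderOf h)
        let T := fourGroup (y : G) (QDFusion.cz x K) hy2 hz2 hycz
        have hT : IsKleinFour T := by
          have hyne : (y : G) ≠ 1 := Dihedral.ne_one (by rw [Subgroup.orderOf_coe, h.ordy])
          have hzne : QDFusion.cz x K ≠ 1 := Dihedral.ne_one (QDFusion.cz_orderOf h)
          have hyz : (y : G) ≠ QDFusion.cz x K := fun e =>
            QuasiDihedral.y_not_mem h ((Subtype.ext e : y = x ^ (4 * (K : ℤ))) ▸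
              Subgroup.zpow_mem_zpowers x _)
          have hne4 : (y : G) * QDFusion.cz x K ≠ 1 := fun e => hyz
            ((eq_inv_of_mul_eq_one_left e).trans (inv_eq_of_mul_eq_one_right hz2))
          have h4 : ({1, (y : G), QDFusion.cz x K, (y : G) * QDFusion.cz x K} : Finset G).card = 4 := by
            rw [Finset.card_insert_of_notMem (by simp [hyne.symm, hzne.symm, hne4.symm]),
              Finset.card_insert_of_notMem (by simp [hyz, hzne]), Finset.card_pair (by simp [hyne])]
          have hc4 : Nat.card T = 4 := by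
            rw [← h4, ← Nat.card_eq_finsetCard]
            exact Nat.card_congr (Equiv.subtypeEquivRight fun s => by simp [T, mem_fourGroup])
          refine ⟨hc4, ?_⟩
          have hdvd : Monoid.exponent T ∣ 2 := by
            refine Monoid.exponent_dvd_of_forall_pow_eq_one fun v => Subtype.ext ?_
            push_cast
            rcases mem_fourGroup.1 v.2 with e | e | e | e <;> rw [e, pow_two]
            · exact one_mul 1
            · exact hy2
            · exact hz2
            · rw [(Commute.symm hycz).mul_mul_mul_comm (y : G) (QDFusion.cz x K), hy2, hz2, one_mul]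
          rcases (Nat.dvd_prime Nat.prime_two).1 hdvd with e | e
          · have := Monoid.exp_eq_one_iff.1 e
            have h1' : Nat.card T = 1 := Nat.card_of_subsingleton 1
            omega
          · exact e
        have hTS : T ≤ (S : Subgroup G) := fun s hs => by
          have hz : QDFusion.cz x K ∈ (S : Subgroup G) := (x ^ (4 * (K : ℤ))).2
          rcases mem_fourGroup.1 hs with rfl | rfl | rfl | rfl
          exacts [one_mem _, y.2, hz, mul_mem y.2 hz]
        obtain ⟨N, -, hN, -⟩ := QDFusion.dihedral_case h hT hTS hF2 hF'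
        exact not_index_two hG N hN
      · obtain ⟨Q, N, hN, hcompl⟩ := QDFusion.nilpotent_case h hF2 hF'
        rcases hN.eq_bot_or_eq_top with e | e
        · rw [e, Subgroup.isComplement'_bot_left] at hcompl
          have hGp : IsPGroup 2 G := fun g => by
            obtain ⟨k, hk⟩ := Q.2 ⟨g, hcompl ▸ Subgroup.mem_top g⟩
            exact ⟨k, congrArg Subtype.val hk⟩
          have : Nontrivial (Subgroup.center G) := hGp.center_nontrivial
          exact (Subgroup.nontrivial_iff_ne_bot _).1 this (SimpleTools.center_eq_bot hG)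
        · rw [e, Subgroup.isComplement'_top_left] at hcompl
          have h2 := SelfCentNoncyclic.two_dvd_card hG
          exact Q.ne_bot_of_dvd_card h2 hcompl
    have hconj : IsConj (QDFusion.ri x K) w :=
      (QDFusion.four_classes h ho).elim id fun e => IsConj.trans hF.symm e
    haveI := Fintype.ofFinite G
    have hcard := CfsgLib.Char.card_centralizer_eq_of_isConj hconj
    rw [hC4] at hcard
    have hle : Subgroup.zpowers (x : G) ≤ Subgroup.centralizer ({QDFusion.ri x K} : Set G) :=
      Subgroup.zpowers_le.2 (Subgroup.mem_centralizer_singleton_iff.2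
        (congrArg Subtype.val (Commute.self_zpow x (2 * (K : ℤ))).eq))
    have hd := Nat.le_of_dvd Nat.card_pos (Subgroup.card_dvd_of_le hle)
    rw [hcard, Nat.card_zpowers, Subgroup.orderOf_coe, h.ord] at hd
    omega

/-- The Sylow subgroup of the configuration is dihedral of order eight. -/
theorem dihedral_four_of_gen {S : Sylow 2 G} {σ τ : G} (h : Gen (S : Subgroup G) σ τ 1) :
    Nonempty ((S : Subgroup G) ≃* DihedralGroup 4) := by
  refine CfsgLib.TwoGroups.CyclicMax.dihedral_iso (a := (⟨σ, h.amem⟩ : (S : Subgroup G))) (b := ⟨τ, h.bmem⟩) ?_ ?_ ?_ (Subtype.ext h.bb)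
    (Subtype.ext h.conj)
  · rw [Subgroup.orderOf_mk, h.ord]; norm_num
  · rw [card_sylow h]; norm_num
  · intro hm
    obtain ⟨i, hi⟩ := Subgroup.mem_zpowers_iff.1 hm
    exact h.nb (Subgroup.mem_zpowers_iff.2 ⟨i, by simpa using congrArg Subtype.val hi⟩)

/-- An element with centraliser of order four. -/
theorem of_card_four (hG : ¬ IsMulCommutative G) {w : G}
    (hC : Nat.card (Subgroup.centralizer ({w} : Set G)) = 4) :
    Nonempty (G ≃* alternatingGroup (Fin 5)) ∨ Answer G := by
  have : Fact (Nat.Prime 2) := ⟨Nat.prime_two⟩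
  have hCp : IsPGroup 2 (Subgroup.centralizer ({w} : Set G)) := IsPGroup.of_card (n := 2) (by rw [hC]; norm_num)
  obtain ⟨S, hS⟩ := hCp.exists_le_sylow
  have hwC : w ∈ Subgroup.centralizer ({w} : Set G) := Subgroup.mem_centralizer_singleton_iff.2 rfl
  have hwS : w ∈ (S : Subgroup G) := hS hwC
  have hw1 : w ≠ 1 := by
    rintro rfl
    have h' : Subgroup.centralizer ({1} : Set G) = ⊤ :=
      eq_top_iff.2 fun g _ => Subgroup.mem_centralizer_singleton_iff.2 (by rw [one_mul, mul_one])
    rw [h', Subgroup.card_top] at hC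
    exact hG (IsPGroup.isMulCommutative_of_card_eq_prime_sq (p := 2) (by rw [hC]; norm_num))
  have hdvd : orderOf w ∣ 4 := by rw [← hC, ← Subgroup.orderOf_mk w hwC]; exact orderOf_dvd_natCard _
  have hcases : orderOf w = 2 ∨ orderOf w = 4 := by
    have h4 : orderOf w ≤ 4 := Nat.le_of_dvd (by norm_num) hdvd
    have h1 : orderOf w ≠ 1 := fun e => hw1 (orderOf_eq_one_iff.1 e)
    have h0 : 0 < orderOf w := orderOf_pos w
    interval_cases orderOf w <;> omega
  obtain ⟨t, u, ht, hu, htS, huS, hut, -⟩ := SelfCentNoncyclic.exists_two_involutions hG S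
  obtain ⟨n, hn⟩ := IsPGroup.iff_card.1 S.2
  have hn2 : 2 ≤ n := by
    by_contra h
    push Not at h
    have := Subgroup.card_dvd_of_le hS
    rw [hC, hn] at this
    interval_cases n <;> omega
  rcases eq_or_lt_of_le hn2 with rfl | hn3
  · -- the Sylow subgroup is the centraliser
    have hword : orderOf w = 2 := by
      refine hcases.resolve_right fun h4 => hut ?_
      have hS' : (S : Subgroup G) = Subgroup.zpowers w := by
        refine (Subgroup.eq_of_le_of_card_ge (Subgroup.zpowers_le.2 hwS) ?_).symm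
        rw [hn, Nat.card_zpowers, h4]; norm_num
      have hz : IsCyclic (S : Subgroup G) := by rw [hS']; infer_instance
      -- two involutions in a cyclic group
      obtain ⟨i, hi⟩ := Subgroup.mem_zpowers_iff.1 (hS' ▸ huS)
      obtain ⟨j, hj⟩ := Subgroup.mem_zpowers_iff.1 (hS' ▸ htS)
      have key : ∀ k : ℤ, orderOf (w ^ k) = 2 → w ^ k = w ^ 2 := by
        intro k hk
        obtain ⟨l, hl, el⟩ : ∃ l : ℕ, l < 4 ∧ w ^ k = w ^ l := by
          refine ⟨(k % 4).toNat, by omega, ?_⟩
          rw [← zpow_natCast, Int.toNat_of_nonneg (Int.emod_nonneg _ (by norm_num)),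
            ← show ((orderOf w : ℕ) : ℤ) = 4 by rw [h4]; rfl, zpow_mod_orderOf]
        rw [el] at hk ⊢
        interval_cases l
        · simp at hk
        · rw [pow_one, h4] at hk; norm_num at hk
        · rfl
        · rw [orderOf_pow, h4] at hk; norm_num at hk
      rw [← hi, ← hj, key i (hi ▸ hu), key j (hj ▸ ht)]
    exact Or.inl (Cfsg.Agent.S0494.result (klein_case hG S ht hu htS huS hut (by rw [hn]; norm_num) hword hC))
  · right
    -- maximal class
    set A : Subgroup (S : Subgroup G) := (Subgroup.centralizer ({w} : Set G)).subgroupOf (S : Subgroup G) with hA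
    have hAcard : Nat.card A = 2 ^ 2 := by
      rw [hA, Nat.card_congr (Subgroup.subgroupOfEquivOfLe hS).toEquiv, hC]; norm_num
    have hAC : Subgroup.centralizer (A : Set (S : Subgroup G)) = A := by
      refine le_antisymm (fun x hx => ?_) (fun x hx => Subgroup.mem_centralizer_iff.2 fun y hy => ?_)
      · rw [hA, Subgroup.mem_subgroupOf, Subgroup.mem_centralizer_singleton_iff]
        exact (congrArg Subtype.val (Subgroup.mem_centralizer_iff.1 hx ⟨w, hwS⟩ (Subgroup.mem_subgroupOf.2 hwC))).symm
      · have hc := (IsPGroup.isMulCommutative_of_card_eq_prime_sq hAcard).is_comm.comm (⟨y, hy⟩ : A) ⟨x, hx⟩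
        exact congrArg Subtype.val hc
    have hclass := Cfsg.Agent.S0112.result n hn A hAcard hAC
    obtain ⟨C, hC1, hC2⟩ := Cfsg.Agent.S0113.result n hn3 hn hclass
    rcases hcases with h2 | h4
    · -- an involution
      exfalso
      haveI := Fintype.ofFinite G
      set Q : Subgroup G := C.map (S : Subgroup G).subtype with hQ
      have hQrel : Q.relIndex (S : Subgroup G) = 2 := by
        rw [hQ, Subgroup.relIndex, Subgroup.subgroupOf,
          Subgroup.comap_map_eq_self_of_injective (Subgroup.subtype_injective _), hC2]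
      have h8 : 2 ^ 3 ≤ 2 ^ n := Nat.pow_le_pow_right (by norm_num) hn3
      -- an involution of the cyclic subgroup is central
      have hbig : ∀ g : G, g * w * g⁻¹ ∈ Q → False := by
        intro g hg
        have ho2 : orderOf (g * w * g⁻¹) = 2 := (Dihedral.orderOf_conj g w).trans h2
        obtain ⟨m, hmC, hm⟩ := hg
        have hCn : C.Normal := Subgroup.normal_of_index_eq_two hC2
        have hle : (S : Subgroup G) ≤ Subgroup.centralizer ({g * w * g⁻¹} : Set G) := by
          intro s hs
          refine Subgroup.mem_centralizer_singleton_iff.2 ?_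
          have hconj := hCn.conj_mem m hmC ⟨s, hs⟩
          have hom : orderOf m = 2 := by
            rw [← Subgroup.orderOf_coe]; exact (congrArg orderOf hm).trans ho2
          obtain ⟨c, hc⟩ := hC1.exists_zpow_surjective
          have hmem : ∀ (y : (S : Subgroup G)), y ∈ C → y ∈ Subgroup.zpowers (c : (S : Subgroup G)) := by
            intro y hy
            obtain ⟨j, hj⟩ := hc ⟨y, hy⟩
            exact Subgroup.mem_zpowers_iff.2 ⟨j, by
              have := congrArg Subtype.val hj
              push_cast at this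
              exact this⟩
          have ho' : orderOf ((⟨s, hs⟩ : (S : Subgroup G)) * m * ⟨s, hs⟩⁻¹) = orderOf m :=
            Dihedral.orderOf_conj _ m
          have hz := SylowFusionTools.zpowers_eq_of_cyclic (hmem _ hconj) (hmem _ hmC) ho'
          have hin : (⟨s, hs⟩ : (S : Subgroup G)) * m * ⟨s, hs⟩⁻¹ ∈ Subgroup.zpowers m :=
            hz ▸ Subgroup.mem_zpowers _
          have he' : s * (m : G) * s⁻¹ = (m : G) := by
            obtain ⟨j, hj⟩ := Subgroup.mem_zpowers_iff.1 hin
            rw [← zpow_mod_orderOf, hom] at hj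
            have hv := congrArg Subtype.val hj
            push_cast at hv
            rcases Int.emod_two_eq_zero_or_one j with e | e <;> rw [show j % ((2 : ℕ) : ℤ) = j % 2 by rfl, e] at hj
            · exfalso
              rw [zpow_zero, eq_comm, conj_eq_one_iff] at hj
              exact Dihedral.ne_one hom hj
            · rw [zpow_one] at hj
              exact (congrArg Subtype.val hj).symm
          rw [← hm]
          exact (mul_inv_eq_iff_eq_mul.1 he')
        have := Nat.le_of_dvd Nat.card_pos (Subgroup.card_dvd_of_le hle)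
        rw [hn, ← CfsgLib.Char.card_centralizer_eq_of_isConj (isConj_iff.2 ⟨g, rfl⟩ : IsConj w (g * w * g⁻¹)),
          hC] at this
        omega
      rcases CfsgLib.Fusion.ThompsonTransfer.thompson_transfer S Q (Subgroup.map_subtype_le C) hQrel w
        (by rw [← h2]; exact pow_orderOf_eq_one w) hwS (fun hmem => hbig 1 (by simpa using hmem)) with
        ⟨M, -, hM, -⟩ | ⟨g, hg⟩
      · exact not_index_two hG M hM
      · exact hbig g hg
    · have hCw : Subgroup.centralizer ({w} : Set G) = Subgroup.zpowers w :=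
        (Subgroup.eq_of_le_of_card_ge (Subgroup.zpowers_le.2 hwC) (by rw [hC, Nat.card_zpowers, h4])).symm
      obtain ⟨σ, τ, hgen, hc⟩ := exists_gen_of_four hG S hwS h4 hCw hn hn3 C hC1 hC2
      obtain ⟨O, hset⟩ := exists_setup hG hgen hc
      obtain ⟨eP⟩ := dihedral_four_of_gen hgen
      exact hset.classify hG eP

end CfsgLib.SelfCentFour
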