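import Mathlib

/-!
# Self-centralising elements of order four: the arithmetic

The order formula and one structure constant give, for the centraliser parameters `m₁`, `m₂`, integers `j`, `e`
with `m₁ + m₂ = 2je`, `|G| = 8 m₁ m₂ e² (8j+1)(4j+1)` and `k((4j+1)²e² - 16 m₁m₂) = 2 m₁ m₂ (8j+1)`.
-/

set_option autoImplicit false

namespace CfsgLib.SelfCentFour

/-- The data carried by the degrees in the principal block. -/
theorem degree_data {G m M u v w : ℤ} (hm : 0 < m) (_hMpos : 0 < M)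
    (hu8 : u % 8 = 1) (hv8 : v % 8 = 3) (hw8 : w % 8 = 3) (hsum : 1 + u + v + w = 0) (hu1 : u ≠ 1)
    (R : ℤ) (hG : G = 8 * m * R) (hR : Odd R)
    (hform : G * (u - 1) ^ 2 = 64 * m * M ^ 2 * (u * (u + 1)))
    (hA : (u * v * w + v * w + u * w + u * v) * G = 256 * m ^ 2 * (u * v * w)) :
    ∃ j e k : ℤ, u = 8 * j + 1 ∧ M = 2 * j * e ∧ Odd e ∧ R = e ^ 2 * ((8 * j + 1) * (4 * j + 1)) ∧
      k * ((4 * j + 1) ^ 2 * e ^ 2 - 16 * m) = 2 * m * (8 * j + 1) := by
  obtain ⟨j, hj⟩ : ∃ j, u = 8 * j + 1 := ⟨u / 8, by omega⟩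
  subst hj
  have hj0 : j ≠ 0 := fun h => hu1 (by subst h; norm_num)
  have h1 : R * (2 * j) ^ 2 = M ^ 2 * ((8 * j + 1) * (4 * j + 1)) := by
    apply mul_left_cancel₀ (show (128 : ℤ) * m ≠ 0 by positivity)
    rw [hG] at hform
    linear_combination hform
  have hco : IsCoprime ((2 * j) ^ 2) ((8 * j + 1) * (4 * j + 1)) :=
    IsCoprime.pow_left (IsCoprime.mul_right ⟨-4, 1, by ring⟩ ⟨-2, 1, by ring⟩)
  have hd : (2 * j) ∣ M :=
    (Int.pow_dvd_pow_iff two_ne_zero).1 (hco.dvd_of_dvd_mul_right ⟨R, by linear_combination -h1⟩)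
  obtain ⟨e, he⟩ := hd
  have hR' : R = e ^ 2 * ((8 * j + 1) * (4 * j + 1)) := by
    apply mul_right_cancel₀ (show (2 * j) ^ 2 ≠ 0 by positivity)
    rw [h1, he]; ring
  have heo : Odd e := by
    rw [hR'] at hR
    have := (Int.odd_mul.1 hR).1
    exact (Int.odd_pow' two_ne_zero).1 this
  obtain ⟨k, hk⟩ : ∃ k, v * w - (8 * j + 1) = 8 * k := by
    refine ⟨(v * w - (8 * j + 1)) / 8, ?_⟩
    have : (v * w - (8 * j + 1)) % 8 = 0 := by
      rw [Int.sub_emod, Int.mul_emod, hv8, hw8]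
      omega
    omega
  refine ⟨j, e, k, rfl, he, heo, hR', ?_⟩
  -- eliminate `R` from the structure constant
  have hg0 : 4 * j + 1 ≠ 0 := by omega
  have hu0 : 8 * j + 1 ≠ 0 := by omega
  have h2 : (4 * j + 1) ^ 2 * e ^ 2 * (v * w - (8 * j + 1)) = 16 * m * (v * w) := by
    apply mul_left_cancel₀ (show (16 : ℤ) * m * (8 * j + 1) ≠ 0 by positivity)
    rw [hG, hR'] at hA
    have hvw : v + w = -(8 * j + 2) := by omega
    linear_combination hA - 8 * m * e ^ 2 * ((8 * j + 1) * (4 * j + 1)) * (8 * j + 1) * hvw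
  apply mul_left_cancel₀ (show (8 : ℤ) ≠ 0 by norm_num)
  rw [hk] at h2
  linear_combination h2 + 16 * m * hk

/-- One component of the core is trivial. -/
theorem one_trivial {j e k m : ℤ} (hm : 3 ≤ m) (hM : m + 1 = 2 * j * e) (he : Odd e)
    (hk : k * ((4 * j + 1) ^ 2 * e ^ 2 - 16 * m) = 2 * m * (8 * j + 1)) :
    (m = 3 ∧ j = -2 ∧ e = -1) ∨ (m = 5 ∧ j = -1 ∧ e = -3) := by
  have hj0 : j ≠ 0 := by rintro rfl; omega
  have he0 : e ≠ 0 := by rintro rfl; omega
  have hje : 0 < j * e := by nlinarith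
  obtain rfl : m = 2 * j * e - 1 := by omega
  rcases lt_or_gt_of_ne hj0 with hj | hj
  · obtain ⟨i, rfl⟩ : ∃ i, j = -i := ⟨-j, by ring⟩
    have hi : 1 ≤ i := by omega
    obtain ⟨f, rfl⟩ : ∃ f, e = -f := ⟨-e, by ring⟩
    have hf : 1 ≤ f := by nlinarith
    obtain ⟨K, rfl⟩ : ∃ K, k = -K := ⟨-k, by ring⟩
    have hk' : K * ((4 * i - 1) ^ 2 * f ^ 2 - 32 * i * f + 16) = 2 * (2 * i * f - 1) * (8 * i - 1) := by
      linear_combination -hk
    have hR : 0 < 2 * (2 * i * f - 1) * (8 * i - 1) := by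
      have : 1 ≤ i * f := by nlinarith
      have : 0 < 2 * i * f - 1 := by nlinarith
      have : 0 < 8 * i - 1 := by omega
      positivity
    have hle : 0 < (4 * i - 1) ^ 2 * f ^ 2 - 32 * i * f + 16 →
        (4 * i - 1) ^ 2 * f ^ 2 - 32 * i * f + 16 ≤ 2 * (2 * i * f - 1) * (8 * i - 1) := fun hD => by
      have : 0 < K := by nlinarith
      nlinarith
    have hfo : f % 2 = 1 := by rw [odd_neg, Int.odd_iff] at he; exact he
    have hf6 : f ≤ 6 := by
      by_contra h
      push Not at h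
      have hif : f ≤ i * f := by nlinarith
      have hD : 0 < (4 * i - 1) ^ 2 * f ^ 2 - 32 * i * f + 16 := by nlinarith
      nlinarith [hle hD]
    interval_cases f
    · -- `f = 1`
      have hi1 : i ≠ 1 := by rintro rfl; omega
      have hD : 0 < (4 * i - 1) ^ 2 * (1 : ℤ) ^ 2 - 32 * i * 1 + 16 := by nlinarith
      have hK : K < 3 ∨ i ≤ 5 := by
        by_contra h
        push Not at h
        nlinarith
      have hK0 : 0 < K := by nlinarith
      rcases hK with hK | hK
      · interval_cases K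
        · exfalso
          have h2 : i < 1 ∨ 1 ≤ i := by omega
          rcases h2 with h2 | h2
          · omega
          · nlinarith
        · ring_nf at hk' ⊢; omega
      · interval_cases i <;> omega
    · omega
    · have hi2 : i ≤ 2 := by
        by_contra h
        push Not at h
        have hD : 0 < (4 * i - 1) ^ 2 * (3 : ℤ) ^ 2 - 32 * i * 3 + 16 := by nlinarith
        nlinarith [hle hD]
      interval_cases i <;> omega
    · omega
    · have hi2 : i ≤ 1 := by
        by_contra h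
        push Not at h
        have hD : 0 < (4 * i - 1) ^ 2 * (5 : ℤ) ^ 2 - 32 * i * 5 + 16 := by nlinarith
        nlinarith [hle hD]
      interval_cases i
      omega
    · omega
  · exfalso
    have he1 : 1 ≤ e := by nlinarith
    have hR : 0 < 2 * (2 * j * e - 1) * (8 * j + 1) := by positivity
    have hD : 0 < (4 * j + 1) ^ 2 * e ^ 2 - 16 * (2 * j * e - 1) := by
      nlinarith [sq_nonneg ((4 * j + 1) * e - 4)]
    have hk0 : 0 < k := by nlinarith
    rw [Int.odd_iff] at he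
    rcases eq_or_lt_of_le he1 with rfl | he2
    · rcases le_or_gt 3 k with hk3 | hk3
      · have hj3 : j ≤ 2 := by
          by_contra h
          push Not at h
          nlinarith
        interval_cases j <;> omega
      · interval_cases k
        · have h2 : j ≤ 1 := by
            by_contra h
            push Not at h
            nlinarith
          interval_cases j
          omega
        · ring_nf at hk; omega
    · have he3 : 3 ≤ e := by omega
      have h2 : (4 * j + 1) ^ 2 * e ^ 2 - 16 * (2 * j * e - 1) ≤ 2 * (2 * j * e - 1) * (8 * j + 1) := by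
        nlinarith
      nlinarith [mul_le_mul_of_nonneg_left he3 (by positivity : (0:ℤ) ≤ (4 * j + 1) ^ 2 * e)]

/-- No group order of the shape in question divides half of the factorial of eleven. -/
theorem small_degree_check : ∀ i : Fin 22, ∀ l : Fin 22, l.val ≤ i.val → ∀ a : Fin 46,
    (2 * (a.val + 1)) ∣ (2 * l.val + 3) + (2 * i.val + 3) →
      ((2 * l.val + 3) + (2 * i.val + 3)) / (2 * (a.val + 1)) % 2 = 1 →
      ¬ 16 * (2 * l.val + 3) * (2 * i.val + 3) * (((2 * l.val + 3) + (2 * i.val + 3)) / (2 * (a.val + 1))) ^ 2 *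
          ((8 * a.val + 9) * (4 * a.val + 5)) ∣ 39916800 ∧
      ¬ 16 * (2 * l.val + 3) * (2 * i.val + 3) * (((2 * l.val + 3) + (2 * i.val + 3)) / (2 * (a.val + 1))) ^ 2 *
          ((8 * a.val + 7) * (4 * a.val + 3)) ∣ 39916800 := by
  decide +kernel

theorem thirteen_check : ∀ i < 74, ∀ l ≤ i, (l + i + 3) % 2 = 1 →
    39 * (2 * i + 3) ^ 2 ≤ 45 * (l + i + 3) ^ 2 →
      ¬ 720 * (2 * l + 3) * (2 * i + 3) * (l + i + 3) ^ 2 ∣ 6227020800 := by
  decide +kernel

theorem fifteen_check : ∀ i < 103, 1 ≤ i → ¬ 720 * (2 * i + 3) ^ 4 ∣ 1307674368000 := by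
  decide +kernel

/-- Both components of the core are nontrivial. -/
theorem both_nontrivial {N n m₁ m₂ : ℕ} {j e : ℤ} (h₁ : 3 ≤ m₁) (h₁₂ : m₁ ≤ m₂) (o₁ : Odd m₁) (o₂ : Odd m₂)
    (hM : ((m₁ : ℤ) + m₂) = 2 * j * e) (he : Odd e)
    (hN : (N : ℤ) = 8 * m₁ * m₂ * (e ^ 2 * ((8 * j + 1) * (4 * j + 1))))
    (hn : Odd n) (hn1 : n ≠ 1) (hle : n * (24 * m₁ * m₂ ^ 3) ≤ N) (hfact : 2 * N ∣ n.factorial) :
    n = 15 ∧ m₁ = 3 ∧ m₂ = 3 ∧ N = 29160 := by
  have hn3 : 3 ≤ n := by rcases hn with ⟨r, rfl⟩; omega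
  have hNpos : 0 < N := by
    have h' : 0 < n * (24 * m₁ * m₂ ^ 3) :=
      Nat.mul_pos (by omega) (Nat.mul_pos (by omega) (pow_pos (by omega) 3))
    omega
  have hm2 : (3 : ℤ) ≤ m₂ := by exact_mod_cast (show 3 ≤ m₂ by omega)
  have hm1 : (3 : ℤ) ≤ m₁ := by exact_mod_cast h₁
  have h12 : (m₁ : ℤ) ≤ m₂ := by exact_mod_cast h₁₂
  have hje : 0 < j * e := by nlinarith
  have hj0 : j ≠ 0 := by rintro rfl; simp at hje
  have he0 : e ≠ 0 := by rintro rfl; simp at hje
  -- the degree bound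
  have hb : 3 * (n : ℤ) * (m₂ : ℤ) ^ 2 ≤ e ^ 2 * ((8 * j + 1) * (4 * j + 1)) := by
    have h' : (n : ℤ) * (24 * m₁ * m₂ ^ 3) ≤ N := by exact_mod_cast hle
    rw [hN] at h'
    apply le_of_mul_le_mul_left (a := 8 * (m₁ : ℤ) * m₂) ?_ (by positivity)
    linarith
  have hb' : 3 * (n : ℤ) * j ^ 2 ≤ (8 * j + 1) * (4 * j + 1) := by
    have h' : j * e ≤ m₂ := by linarith
    have h'' : (j * e) ^ 2 ≤ (m₂ : ℤ) ^ 2 := pow_le_pow_left₀ hje.le h' 2
    apply le_of_mul_le_mul_left (a := e ^ 2) ?_ (by positivity)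
    calc e ^ 2 * (3 * (n : ℤ) * j ^ 2) = 3 * (n : ℤ) * (j * e) ^ 2 := by ring
      _ ≤ 3 * (n : ℤ) * (m₂ : ℤ) ^ 2 := by gcongr
      _ ≤ _ := hb
  obtain ⟨l, rfl⟩ : ∃ l, m₁ = 2 * l + 3 := by rcases o₁ with ⟨r, rfl⟩; exact ⟨r - 1, by omega⟩
  obtain ⟨i, rfl⟩ : ∃ i, m₂ = 2 * i + 3 := by rcases o₂ with ⟨r, rfl⟩; exact ⟨r - 1, by omega⟩
  by_cases hn11 : n ≤ 11
  · exfalso
    have hd : 2 * N ∣ 39916800 :=
      hfact.trans ((Nat.factorial_dvd_factorial hn11).trans (dvd_of_eq (by decide)))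
    have hN' := Nat.le_of_dvd (by norm_num) hd
    have hi : i < 22 := by
      by_contra h
      push Not at h
      have h47 : 47 ≤ 2 * i + 3 := by omega
      have h' : 3 * (24 * 3 * 47 ^ 3) ≤ n * (24 * (2 * l + 3) * (2 * i + 3) ^ 3) := by gcongr
      omega
    obtain ⟨a, hja⟩ : ∃ a : ℕ, j.natAbs = a + 1 := ⟨j.natAbs - 1, by omega⟩
    have hdiv : (2 * l + 3) + (2 * i + 3) = 2 * (a + 1) * e.natAbs := by
      have h' := congrArg Int.natAbs hM
      rw [Int.natAbs_mul, Int.natAbs_mul, hja, ← Nat.cast_add, Int.natAbs_natCast] at h'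
      exact h'
    have hq : ((2 * l + 3) + (2 * i + 3)) / (2 * (a + 1)) = e.natAbs := by
      rw [hdiv, Nat.mul_div_cancel_left _ (by omega)]
    have ha : a < 46 := by
      have : 1 ≤ e.natAbs := by omega
      have : 2 * (a + 1) ≤ 2 * (a + 1) * e.natAbs := Nat.le_mul_of_pos_right _ (by omega)
      omega
    have h := small_degree_check ⟨i, hi⟩ ⟨l, by omega⟩ (show l ≤ i by omega) ⟨a, ha⟩ ⟨_, hdiv⟩ (by
      rw [hq]; exact Nat.odd_iff.1 (Int.natAbs_odd.2 he))
    simp only at h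
    rw [hq] at h
    rcases Int.natAbs_eq j with hj | hj <;> rw [hja] at hj
    · refine h.1 (Int.natCast_dvd_natCast.1 ?_)
      have h' : ((2 * N : ℕ) : ℤ) ∣ ((39916800 : ℕ) : ℤ) := Int.natCast_dvd_natCast.2 hd
      refine (dvd_of_eq ?_).trans h'
      push_cast [hN]
      rw [sq_abs, hj]; push_cast; ring
    · refine h.2 (Int.natCast_dvd_natCast.1 ?_)
      have h' : ((2 * N : ℕ) : ℤ) ∣ ((39916800 : ℕ) : ℤ) := Int.natCast_dvd_natCast.2 hd
      refine (dvd_of_eq ?_).trans h'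
      push_cast [hN]
      rw [sq_abs, hj]; push_cast; ring
  · -- only `j = 1` is left
    have hn12 : (13 : ℤ) ≤ n := by
      rcases hn with ⟨r, rfl⟩; push_cast; omega
    have hj1 : j = 1 := by
      by_contra h
      rcases lt_or_gt_of_ne hj0 with hj | hj
      · nlinarith
      · have : 2 ≤ j := by omega
        nlinarith
    subst hj1
    have hn15 : (n : ℤ) ≤ 15 := by linarith
    have heE : e = ((l + i + 3 : ℕ) : ℤ) := by push_cast at hM ⊢; linarith
    have hN0 : N = 360 * (2 * l + 3) * (2 * i + 3) * (l + i + 3) ^ 2 := by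
      have h' : (N : ℤ) = ((360 * (2 * l + 3) * (2 * i + 3) * (l + i + 3) ^ 2 : ℕ) : ℤ) := by
        rw [hN, heE]; push_cast; ring
      exact_mod_cast h'
    have hbN : 3 * n * (2 * i + 3) ^ 2 ≤ 45 * (l + i + 3) ^ 2 := by
      rw [heE] at hb
      have h' : ((3 * n * (2 * i + 3) ^ 2 : ℕ) : ℤ) ≤ ((45 * (l + i + 3) ^ 2 : ℕ) : ℤ) := by
        push_cast; push_cast at hb; linarith
      exact_mod_cast h'
    have heo : (l + i + 3) % 2 = 1 := by
      rw [heE, Int.odd_coe_nat] at he; exact Nat.odd_iff.1 he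
    have hd : 720 * (2 * l + 3) * (2 * i + 3) * (l + i + 3) ^ 2 ∣ n.factorial := by
      refine (dvd_of_eq ?_).trans hfact
      rw [hN0]; ring
    have hn13 : n = 13 ∨ n = 15 := by rcases hn with ⟨r, rfl⟩; omega
    rcases hn13 with rfl | rfl
    · exfalso
      rw [show Nat.factorial 13 = 6227020800 by decide] at hd hfact
      refine thirteen_check i ?_ l (by omega) heo (by omega) hd
      by_contra h
      push Not at h
      have h151 : 151 ≤ 2 * i + 3 := by omega
      have h' : 13 * (24 * 3 * 151 ^ 3) ≤ 13 * (24 * (2 * l + 3) * (2 * i + 3) ^ 3) := by gcongr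
      have h'' := Nat.le_of_dvd (by norm_num) hfact
      omega
    · have hli : l = i := by
        by_contra h
        have h' : (2 * i + 3) ^ 2 ≤ (l + i + 3) ^ 2 := by omega
        have := (Nat.pow_le_pow_iff_left two_ne_zero).1 h'
        omega
      subst hli
      rw [show Nat.factorial 15 = 1307674368000 by decide] at hd
      have hd' : 720 * (2 * l + 3) ^ 4 ∣ 1307674368000 := by
        refine (dvd_of_eq ?_).trans hd; ring
      have hl0 : l = 0 := by
        by_contra h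
        refine fifteen_check l ?_ (by omega) hd'
        by_contra hl
        push Not at hl
        have h209 : 209 ≤ 2 * l + 3 := by omega
        have h' : 720 * 209 ^ 4 ≤ 720 * (2 * l + 3) ^ 4 := by gcongr
        have h'' := Nat.le_of_dvd (by norm_num) hd'
        omega
      subst hl0
      exact ⟨rfl, rfl, rfl, by rw [hN0]; norm_num⟩

end CfsgLib.SelfCentFour
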