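import Cfsg.Agent.S4481
import Cfsg.Agent.S4482
import Cfsg.Agent.Lib.Blocks.FourGroupOrder
import Cfsg.Agent.Lib.Blocks.Defect
import Cfsg.Agent.Lib.Char.Orth
import Cfsg.Agent.Lib.Char.Integral
import Cfsg.Agent.Lib.DegreeTools.TISum
import Cfsg.Agent.Lib.Involution.DihedralSylowFusion

/-!
# Self-centralising elements of order four: the principal 2-block

The degrees in the principal block satisfy the order formula and one equation coming from the pairs of
involutions whose product is the element of order four.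
-/

set_option autoImplicit false

namespace CfsgLib.SelfCentFour

open Cfsg CfsgLib CfsgLib.Blocks CfsgLib.Char CfsgLib.Involution.DihedralSylow
open scoped Classical ComplexConjugate

set_option linter.unusedSectionVars false

variable {G : Type*} [Group G] [Fintype G] {P : Sylow 2 G} {σ τ : G}

theorem rot_cases (h : Gen (P : Subgroup G) σ τ 1) (x : G) (hx : x ∈ (P : Subgroup G)) :
    x = 1 ∨ x = σ ∨ x = σ ^ 2 ∨ x = σ ^ 3 ∨ orderOf x = 2 := by
  have h4 : orderOf σ = 4 := by rw [h.ord]; norm_num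
  rcases h.cases x hx with ⟨i, rfl⟩ | ⟨i, rfl⟩
  · obtain ⟨l, hl, e⟩ : ∃ l : ℕ, l < 4 ∧ σ ^ i = σ ^ l := by
      refine ⟨(i % 4).toNat, by omega, ?_⟩
      rw [← zpow_natCast, Int.toNat_of_nonneg (Int.emod_nonneg _ (by norm_num)),
        ← show ((orderOf σ : ℕ) : ℤ) = 4 by rw [h4]; rfl, zpow_mod_orderOf]
    interval_cases l
    · exact Or.inl (by rw [e, pow_zero])
    · exact Or.inr (Or.inl (by rw [e, pow_one]))
    · exact Or.inr (Or.inr (Or.inl e))
    · exact Or.inr (Or.inr (Or.inr (Or.inl e)))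
  · exact Or.inr (Or.inr (Or.inr (Or.inr (refl_orderOf h i))))

theorem sigma_order_two (h : Gen (P : Subgroup G) σ τ 1) : orderOf (σ ^ 2) = 2 := by
  have h4 : orderOf σ = 4 := by rw [h.ord]; norm_num
  rw [orderOf_pow, h4]; rfl

/-- The values on the Sylow subgroup average to an integer. -/
theorem sylow_congr (h : Gen (P : Subgroup G) σ τ 1)
    (hone : ∀ a b : G, orderOf a = 2 → orderOf b = 2 → IsConj a b) (χ : IrrCharacter G) (a b : ℤ)
    (ha : (χ : G → ℂ) σ = a) (ha3 : (χ : G → ℂ) (σ ^ 3) = a) (hb : (χ : G → ℂ) (σ ^ 2) = b) :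
    (8 : ℤ) ∣ charDegree (χ : G → ℂ) + 5 * b + 2 * a := by
  have h4 : orderOf σ = 4 := by rw [h.ord]; norm_num
  have hcard : Nat.card P = 8 := by rw [card_sylow h]; norm_num
  have hv : ∀ x : P, (χ : G → ℂ) ((1 : G) * x) =
      if (x : G) = 1 then (charDegree (χ : G → ℂ) : ℂ) else if (x : G) = σ ∨ (x : G) = σ ^ 3 then (a : ℂ)
        else (b : ℂ) := by
    intro x
    rw [one_mul]
    split_ifs with h1 h2
    · rw [h1, irr_one_eq]
    · rcases h2 with e | e <;> rw [e] <;> assumption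
    · push Not at h2
      have ho : orderOf (x : G) = 2 := by
        rcases rot_cases h x x.2 with e | e | e | e | e
        · exact absurd e h1
        · exact absurd e h2.1
        · rw [e]; exact sigma_order_two h
        · exact absurd e h2.2
        · exact e
      rw [← hb]
      exact CfsgLib.Char.IsClassFunction.apply_eq_of_isConj (CfsgLib.Char.IsIrrCharacter.isClassFunction χ.2)
        (hone _ _ ho (sigma_order_two h))
  have hI := isIntegral_average_coset (1 : G) (P : Subgroup G) (fun x _ => Commute.one_left x) χ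
  have hne3 : σ ≠ σ ^ 3 := fun e => by
    have h' : σ ^ 2 = 1 := mul_left_cancel (a := σ) (by rw [mul_one, ← pow_succ']; exact e.symm)
    have := orderOf_dvd_of_pow_eq_one h'
    rw [h4] at this
    norm_num at this
  have hσ1 : σ ≠ 1 := fun e => by rw [e, orderOf_one] at h4; norm_num at h4
  have hσ31 : σ ^ 3 ≠ 1 := fun e => by
    have := orderOf_dvd_of_pow_eq_one e
    rw [h4] at this; norm_num at this
  have hv' : ∀ x : P, (χ : G → ℂ) ((1 : G) * x) = (b : ℂ)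
      + (if x = 1 then (charDegree (χ : G → ℂ) : ℂ) - b else 0)
      + (if x = ⟨σ, h.amem⟩ then (a : ℂ) - b else 0)
      + (if x = ⟨σ ^ 3, pow_mem h.amem 3⟩ then (a : ℂ) - b else 0) := by
    intro x
    rw [hv x]
    simp only [Subtype.ext_iff, OneMemClass.coe_one]
    by_cases e1 : (x : G) = 1
    · simp [e1, hσ1.symm, hσ31.symm]
    by_cases e2 : (x : G) = σ
    · simp [e2, hσ1, hne3]
    by_cases e3 : (x : G) = σ ^ 3
    · simp [e3, hσ31, hne3.symm]
    simp [e1, e2, e3]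
  simp only [hv'] at hI
  simp only [Finset.sum_add_distrib, Finset.sum_ite_eq', Finset.mem_univ, if_true, Finset.sum_const,
    Finset.card_univ, nsmul_eq_mul, ← Nat.card_eq_fintype_card] at hI
  rw [hcard] at hI
  obtain ⟨z, hz⟩ := exists_int_of_isIntegral_rat hI
    (q := ((charDegree (χ : G → ℂ) + 5 * b + 2 * a : ℤ) : ℚ) / 8) (by push_cast; ring)
  refine ⟨z, ?_⟩
  have hz' : ((charDegree (χ : G → ℂ) + 5 * b + 2 * a : ℤ) : ℂ) = ((8 * z : ℤ) : ℂ) := by
    push_cast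
    rw [← hz]
    push_cast
    ring
  exact_mod_cast hz'

/-- There are four pairs of involutions with product `σ`. -/
theorem pair_count (h : Gen (P : Subgroup G) σ τ 1)
    (hone : ∀ a b : G, orderOf a = 2 → orderOf b = 2 → IsConj a b)
    (hσc : Nat.card (Subgroup.centralizer ({σ} : Set G)) = 4) :
    ∑ x : G, classInd (σ ^ 2) x * classInd (σ ^ 2) (x⁻¹ * σ⁻¹) = 4 := by
  have h4 : orderOf σ = 4 := by rw [h.ord]; norm_num
  have ht := sigma_order_two h
  have hiff : ∀ x : G, IsConj (σ ^ 2) x ↔ orderOf x = 2 := fun x =>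
    ⟨fun e => by
      obtain ⟨c, rfl⟩ := isConj_iff.1 e
      rw [CfsgLib.Involution.Dihedral.orderOf_conj, ht], fun e => hone _ _ ht e⟩
  have hCeq : Subgroup.centralizer ({σ} : Set G) = Subgroup.zpowers σ := by
    refine (Subgroup.eq_of_le_of_card_ge (Subgroup.zpowers_le.2
      (Subgroup.mem_centralizer_singleton_iff.2 rfl)) ?_).symm
    rw [hσc, Nat.card_zpowers, h4]
  have key : ∀ x : G, (IsConj (σ ^ 2) x ∧ IsConj (σ ^ 2) (x⁻¹ * σ⁻¹)) ↔
      ∃ r ∈ Subgroup.zpowers σ, r * τ = x := by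
    intro x
    rw [hiff, hiff]
    constructor
    · rintro ⟨hx, hy⟩
      have hx2 : x * x = 1 := CfsgLib.Involution.Dihedral.mul_self hx
      have hy2 : x⁻¹ * σ⁻¹ * (x⁻¹ * σ⁻¹) = 1 := CfsgLib.Involution.Dihedral.mul_self hy
      have hinv : x * σ * x⁻¹ = σ⁻¹ := by
        rw [inv_eq_of_mul_eq_one_right hx2]
        rw [inv_eq_of_mul_eq_one_right hx2] at hy2
        have e : x * σ⁻¹ * x = σ := by
          rw [← mul_assoc] at hy2
          exact mul_inv_eq_one.1 hy2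
        have e' := congrArg (fun z => z⁻¹) e
        simp only [mul_inv_rev, inv_inv, inv_eq_of_mul_eq_one_right hx2] at e'
        rw [← mul_assoc] at e'
        exact e'
      refine ⟨x * τ⁻¹, hCeq ▸ Subgroup.mem_centralizer_singleton_iff.2 ?_, by group⟩
      have hτ : τ⁻¹ * σ * τ = σ⁻¹ := by
        rw [inv_eq_of_mul_eq_one_right h.bb]
        have := h.conj
        rwa [inv_eq_of_mul_eq_one_right h.bb] at this
      have hσi : x * σ⁻¹ * x⁻¹ = σ := by
        have := congrArg (fun z => z⁻¹) hinv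
        simpa [mul_assoc] using this
      calc x * τ⁻¹ * σ = x * (τ⁻¹ * σ * τ) * τ⁻¹ := by group
        _ = x * σ⁻¹ * x⁻¹ * (x * τ⁻¹) := by rw [hτ]; group
        _ = σ * (x * τ⁻¹) := by rw [hσi]
    · rintro ⟨r, ⟨i, rfl⟩, rfl⟩
      refine ⟨refl_orderOf h i, ?_⟩
      rw [inv_eq_of_mul_eq_one_right (refl_sq h i)]
      rw [mul_assoc, show τ * σ⁻¹ = σ ^ (1 : ℤ) * τ by
        have := b_mul h (-1); simpa using this, ← mul_assoc, ← zpow_add]
      exact refl_orderOf h _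
  calc ∑ x : G, classInd (σ ^ 2) x * classInd (σ ^ 2) (x⁻¹ * σ⁻¹)
      = ∑ x : G, if (∃ r ∈ Subgroup.zpowers σ, r * τ = x) then (1 : ℂ) else 0 := by
        refine Finset.sum_congr rfl fun x _ => ?_
        rw [classInd, classInd]
        by_cases hx : ∃ r ∈ Subgroup.zpowers σ, r * τ = x
        · rw [if_pos hx, if_pos ((key x).2 hx).1, if_pos ((key x).2 hx).2, mul_one]
        · rw [if_neg hx]
          by_cases hc : IsConj (σ ^ 2) x
          · rw [if_neg (fun e => hx ((key x).1 ⟨hc, e⟩)), mul_zero]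
          · rw [if_neg hc, zero_mul]
    _ = 4 := by
      rw [Finset.sum_boole]
      have : (Finset.univ.filter fun x : G => ∃ r ∈ Subgroup.zpowers σ, r * τ = x)
          = (Finset.univ.filter fun r : G => r ∈ Subgroup.zpowers σ).image (· * τ) := by
        ext x
        simp only [Finset.mem_filter, Finset.mem_univ, true_and, Finset.mem_image]
      rw [this, Finset.card_image_of_injective _ (mul_left_injective τ), ← Fintype.card_subtype,
        ← Nat.card_eq_fintype_card]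
      have hc : Nat.card {r : G // r ∈ Subgroup.zpowers σ} = 4 := by
        exact (Nat.card_zpowers σ).trans h4
      rw [hc]; norm_num

/-- The equations satisfied by the signed degrees. -/
theorem block_data (eP : (P : Subgroup G) ≃* DihedralGroup 4) (h : Gen (P : Subgroup G) σ τ 1)
    (hone : ∀ a b : G, orderOf a = 2 → orderOf b = 2 → IsConj a b)
    (hσc : Nat.card (Subgroup.centralizer ({σ} : Set G)) = 4) (m₁ m₂ : ℕ)
    (hJ : Nat.card (Subgroup.centralizer ({σ ^ 2} : Set G)) = 8 * (m₁ * m₂))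
    (h1 : Nat.card (Subgroup.centralizer ({σ ^ 2, τ} : Set G)) = 4 * m₁)
    (h2 : Nat.card (Subgroup.centralizer ({σ ^ 2, σ * τ} : Set G)) = 4 * m₂) :
    ∃ u v w : ℤ, u % 8 = 1 ∧ v % 8 = 3 ∧ w % 8 = 3 ∧ 1 + u + v + w = 0 ∧ u ≠ 1 ∧
      (Nat.card G : ℤ) * (u - 1) ^ 2 = 64 * ((m₁ : ℤ) * m₂) * ((m₁ : ℤ) + m₂) ^ 2 * (u * (u + 1)) ∧
      (u * v * w + v * w + u * w + u * v) * (Nat.card G : ℤ) = 256 * ((m₁ : ℤ) * m₂) ^ 2 * (u * v * w) := by
  have : Fact (Nat.Prime 2) := ⟨Nat.prime_two⟩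
  have h4 : orderOf σ = 4 := by rw [h.ord]; norm_num
  obtain ⟨M, hM⟩ := DegreeTools.TISum.exists_pmodular (p := 2) Nat.prime_two
  have hI : IsPrimitiveRoot Complex.I (2 ^ (3 - 1)) := Complex.isPrimitiveRoot_I
  obtain ⟨hcardB, χ₁, χ₂, χ₃, χ', δ₁, δ₂, δ₃, hd1, hd2, hd3, hinj', n1, n2, n3, h12, h13, h23, hj, hB, hval,
    hrel⟩ := Cfsg.Agent.S4481.result M hM 3 le_rfl P ⟨eP⟩ σ h.amem (by rw [h4]; norm_num) Complex.I hI
  set j0 : Fin (2 ^ (3 - 2) - 1) := ⟨0, by norm_num⟩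
  set χ4 := χ' j0 with hχ4
  obtain ⟨e11, e21, e31, e41⟩ := hval 1 one_pos (by norm_num)
  obtain ⟨e12, e22, e32, e42⟩ := hval 2 two_pos (by norm_num)
  obtain ⟨e13, e23, e33, e43⟩ := hval 3 (by norm_num) (by norm_num)
  rw [pow_one] at e11 e21 e31
  norm_num at e21 e31 e22 e32 e23 e33
  -- the four nonzero values on `σ`
  set t0 := Blocks.trivChar G with ht0
  have ht0v : ∀ x, (t0 : G → ℂ) x = 1 := fun x => rfl
  have hne0 : ∀ {χ : IrrCharacter G}, (χ : G → ℂ) ≠ (fun _ => 1) → t0 ≠ χ := fun {χ} hχ e => hχ (by rw [← e]; rfl)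
  set Q : Finset (IrrCharacter G) := {t0, χ₁, χ₂, χ₃} with hQ
  have hQsum : ∀ F : IrrCharacter G → ℂ, ∑ χ ∈ Q, F χ = F t0 + F χ₁ + F χ₂ + F χ₃ := by
    intro F
    rw [hQ, Finset.sum_insert (by simp [hne0 n1, hne0 n2, hne0 n3]), Finset.sum_insert (by simp [h12, h13]),
      Finset.sum_pair h23]
    ring
  have sq1 : ∀ {δ : ℤ}, δ = 1 ∨ δ = -1 → (δ : ℂ) * conj (δ : ℂ) = 1 := fun {δ} hδ => by
    rcases hδ with rfl | rfl <;> simp
  have hvan : ∀ χ : IrrCharacter G, χ ∉ Q → (χ : G → ℂ) σ = 0 := by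
    intro χ hχ
    have ho := sum_irr_mul_conj σ σ
    rw [if_pos (IsConj.refl σ), hσc, ← Finset.sum_add_sum_compl Q, hQsum, ht0v, e11, e21, e31, sq1 hd1,
      sq1 hd2, sq1 hd3, map_one, mul_one] at ho
    have hz : ∑ ψ ∈ Qᶜ, Complex.normSq ((ψ : G → ℂ) σ) = 0 := by
      have h' : ((∑ ψ ∈ Qᶜ, Complex.normSq ((ψ : G → ℂ) σ) : ℝ) : ℂ) = 0 := by
        push_cast
        simp only [← Complex.mul_conj]
        push_cast at ho
        linear_combination ho
      exact_mod_cast h'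
    exact Complex.normSq_eq_zero.1
      ((Finset.sum_eq_zero_iff_of_nonneg fun ψ _ => Complex.normSq_nonneg _).1 hz χ (Finset.mem_compl.2 hχ))
  -- congruences
  have c1 : (8 : ℤ) ∣ charDegree (χ₁ : G → ℂ) + 5 * δ₁ + 2 * δ₁ := sylow_congr h hone χ₁ δ₁ δ₁ e11 e13 e12
  have c2 : (8 : ℤ) ∣ charDegree (χ₂ : G → ℂ) + 5 * (-δ₂) + 2 * δ₂ :=
    sylow_congr h hone χ₂ δ₂ (-δ₂) e21 e23 (by rw [Int.cast_neg]; exact e22)
  have c3 : (8 : ℤ) ∣ charDegree (χ₃ : G → ℂ) + 5 * (-δ₃) + 2 * δ₃ :=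
    sylow_congr h hone χ₃ δ₃ (-δ₃) e31 e33 (by rw [Int.cast_neg]; exact e32)
  have hr := (hrel 1 (by simp) j0).1
  rw [irr_one_eq, irr_one_eq, irr_one_eq] at hr
  have hr' : 1 + δ₁ * (charDegree (χ₁ : G → ℂ) : ℤ) = -δ₂ * (charDegree (χ₂ : G → ℂ) : ℤ)
      - δ₃ * (charDegree (χ₃ : G → ℂ) : ℤ) := by exact_mod_cast hr
  -- the order formula
  have hval' : ∀ l : ℕ, 0 < l → l < 2 ^ (3 - 1) → (χ₁ : G → ℂ) (σ ^ l) = δ₁ := fun l hl hl' =>
    (hval l hl hl').1
  have hmemB : χ₁ ∈ Cfsg.principalBlock M G := by rw [hB]; exact Or.inr (Or.inl rfl)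
  have hgen : Subgroup.closure ({σ, τ} : Set G) = (P : Subgroup G) := by
    refine le_antisymm ((Subgroup.closure_le _).2 ?_) fun x hx => ?_
    · rintro x (rfl | rfl)
      exacts [h.amem, h.bmem]
    · have hs : σ ∈ Subgroup.closure ({σ, τ} : Set G) := Subgroup.subset_closure (Or.inl rfl)
      rcases h.cases x hx with ⟨i, rfl⟩ | ⟨i, rfl⟩
      · exact zpow_mem hs i
      · exact mul_mem (zpow_mem hs i) (Subgroup.subset_closure (Or.inr rfl))
  have hto : orderOf τ = 2 := by simpa using refl_orderOf h 0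
  have hsto : orderOf (σ * τ) = 2 := by simpa using refl_orderOf h 1
  obtain ⟨hx1, hf⟩ := Cfsg.Agent.S4482.result M hM 3 le_rfl P σ τ h.amem h.bmem (by rw [h4]; norm_num) hto
    h.conj hgen (by
      show IsConj (σ ^ 2) τ ∧ IsConj (σ ^ 2) (σ * τ)
      exact ⟨hone _ _ (sigma_order_two h) hto, hone _ _ (sigma_order_two h) hsto⟩)
    χ₁ hmemB n1 δ₁ hd1 hval'
  simp only [show 2 ^ (3 - 2) = 2 by norm_num] at hf
  rw [hJ, h1, h2] at hf
  -- the structure constant
  have hS := Blocks.FourGroup.sum_sq_mul_div_eq (σ ^ 2) σ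
  rw [pair_count h hone hσc, hJ] at hS
  rw [← Finset.sum_add_sum_compl Q, Finset.sum_eq_zero (s := Qᶜ) fun χ hχ => by
    rw [hvan χ (Finset.mem_compl.1 hχ)]; ring, add_zero, hQsum, ht0v, ht0v, ht0v, e12, e22, e32, e11, e21,
    e31, irr_one_eq, irr_one_eq, irr_one_eq] at hS
  set x₁ := charDegree (χ₁ : G → ℂ)
  set x₂ := charDegree (χ₂ : G → ℂ)
  set x₃ := charDegree (χ₃ : G → ℂ)
  have p1 : 0 < x₁ := charDegree_pos χ₁
  have p2 : 0 < x₂ := charDegree_pos χ₂
  have p3 : 0 < x₃ := charDegree_pos χ₃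
  have hm : 0 < m₁ ∧ 0 < m₂ := by
    have hpos : 0 < 8 * (m₁ * m₂) := hJ ▸ Nat.card_pos
    exact ⟨Nat.pos_of_ne_zero fun e => by simp [e] at hpos, Nat.pos_of_ne_zero fun e => by simp [e] at hpos⟩
  refine ⟨δ₁ * x₁, δ₂ * x₂, δ₃ * x₃, ?_, ?_, ?_, by linarith, ?_, ?_, ?_⟩
  · rcases hd1 with rfl | rfl <;> omega
  · rcases hd2 with rfl | rfl <;> omega
  · rcases hd3 with rfl | rfl <;> omega
  · intro e
    refine hx1 ?_
    rcases hd1 with rfl | rfl <;> linarith
  · rw [← Int.cast_inj (α := ℚ)]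
    have hd : ((δ₁ : ℚ)) ^ 2 = 1 := by rcases hd1 with rfl | rfl <;> norm_num
    have hm1 : (m₁ : ℚ) ≠ 0 := Nat.cast_ne_zero.2 hm.1.ne'
    have hm2 : (m₂ : ℚ) ≠ 0 := Nat.cast_ne_zero.2 hm.2.ne'
    push_cast at hf ⊢
    have e : (8 * ((m₁ : ℚ) * m₂)) ^ 3 * (1 / (4 * (m₁ : ℚ)) + 1 / (4 * (m₂ : ℚ))) ^ 2
        = 32 * ((m₁ : ℚ) * m₂) * ((m₁ : ℚ) + m₂) ^ 2 := by
      field_simp; ring
    rcases hd1 with rfl | rfl
    · push_cast at hf ⊢
      linear_combination hf + 2 * (x₁ : ℚ) * ((x₁ : ℚ) + 1) * e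
    · push_cast at hf ⊢
      linear_combination hf + 2 * (x₁ : ℚ) * ((x₁ : ℚ) + -1) * e
  · rw [← Int.cast_inj (α := ℂ)]
    have n1' : (x₁ : ℂ) ≠ 0 := Nat.cast_ne_zero.2 p1.ne'
    have n2' : (x₂ : ℂ) ≠ 0 := Nat.cast_ne_zero.2 p2.ne'
    have n3' : (x₃ : ℂ) ≠ 0 := Nat.cast_ne_zero.2 p3.ne'
    push_cast
    have q1 : (δ₁ : ℂ) ^ 2 = 1 := by rcases hd1 with rfl | rfl <;> norm_num
    have q2 : (δ₂ : ℂ) ^ 2 = 1 := by rcases hd2 with rfl | rfl <;> norm_num
    have q3 : (δ₃ : ℂ) ^ 2 = 1 := by rcases hd3 with rfl | rfl <;> norm_num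
    set U := (δ₁ : ℂ) * x₁ with hU
    set V := (δ₂ : ℂ) * x₂ with hV
    set W := (δ₃ : ℂ) * x₃ with hW
    have r1 : U * ((δ₁ : ℂ) / x₁) = 1 := by rw [hU]; field_simp; linear_combination q1
    have r2 : V * ((δ₂ : ℂ) / x₂) = 1 := by rw [hV]; field_simp; linear_combination q2
    have r3 : W * ((δ₃ : ℂ) / x₃) = 1 := by rw [hW]; field_simp; linear_combination q3
    simp only [neg_sq, q1, q2, q3, one_pow, one_mul, div_one, mul_one, Nat.cast_mul, Nat.cast_ofNat] at hS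
    linear_combination (U * V * W) * hS - (Nat.card G : ℂ) * (V * W) * r1 - (Nat.card G : ℂ) * (U * W) * r2
      - (Nat.card G : ℂ) * (U * V) * r3

end CfsgLib.SelfCentFour
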