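import Cfsg.Agent.Lib.SelfCentFour.Four
import Cfsg.Agent.Lib.SelfCentFour.Arith
import Cfsg.Agent.Lib.SelfCentFour.Block
import Cfsg.Agent.Lib.SmallGroups.SimpleTools
import Cfsg.Agent.Lib.SmallGroups.SylowInter

/-!
# Self-centralising elements of order four: at most one component is nontrivial
-/

set_option autoImplicit false
set_option linter.unusedSectionVars false

namespace CfsgLib.SelfCentFour

open CfsgLib.Involution CfsgLib.Involution.DihedralSylow CfsgLib.SmallGroups

variable {G : Type*} [Group G] [Finite G] [IsSimpleGroup G]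

/-- There is no simple group of order 29160. -/
theorem no_29160 (hG : ¬ IsMulCommutative G) : Nat.card G ≠ 29160 := by
  intro h
  have : Fact (Nat.Prime 3) := ⟨Nat.prime_three⟩
  have hfac : Nat.card G = 3 ^ 6 * 40 := by rw [h]; norm_num
  have hmem := SimpleTools.card_sylow_mem hfac (by norm_num)
  rw [show (40 : ℕ).divisors.filter (fun n => n % 3 = 1) = {1, 4, 10, 40} by decide] at hmem
  have h3 : 3 ∣ Nat.card G := by rw [h]; norm_num
  have hsmall : ∀ H : Subgroup G, H ≠ ⊤ → ¬ H.index ≤ 10 := by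
    intro H hH hle
    have hd := (SimpleTools.two_mul_card_dvd_factorial hG H hH).trans (Nat.factorial_dvd_factorial hle)
    rw [h] at hd
    revert hd
    decide
  obtain ⟨P₀⟩ : Nonempty (Sylow 3 G) := inferInstance
  simp only [Finset.mem_insert, Finset.mem_singleton] at hmem
  have hN0 := SimpleTools.normalizer_ne_top hG h3 P₀
  rcases hmem with e | e | e | e
  · exact SimpleTools.card_sylow_ne_one hG h3 e
  · exact hsmall _ hN0 ((P₀.card_eq_index_normalizer.symm.trans e).le.trans (by norm_num))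
  · exact hsmall _ hN0 (P₀.card_eq_index_normalizer.symm.trans e).le
  · obtain ⟨P, R, hPR, hidx⟩ := SylowInter.exists_relIndex_le (p := 3) (G := G) 2 (by rw [e]; decide)
    have hP : Nat.card P = 729 := SimpleTools.card_sylow_subgroup hfac (by norm_num) P
    have hR : Nat.card R = 729 := SimpleTools.card_sylow_subgroup hfac (by norm_num) R
    set D : Subgroup G := (P : Subgroup G) ⊓ (R : Subgroup G) with hD
    have hidxP : (D.subgroupOf (P : Subgroup G)).index = 3 := by
      rw [hD, Subgroup.inf_subgroupOf_left]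
      norm_num at hidx
      obtain ⟨r, hr⟩ := P.2.index ((R : Subgroup G).subgroupOf (P : Subgroup G))
      have h0 : r ≠ 0 := by
        rintro rfl
        rw [pow_zero, Subgroup.index_eq_one, Subgroup.subgroupOf_eq_top] at hr
        exact hPR (Sylow.ext (Subgroup.eq_of_le_of_card_ge hr (by rw [hP, hR])))
      rw [hr] at hidx ⊢
      have : r ≤ 1 := by
        by_contra hlt
        push Not at hlt
        have := Nat.pow_le_pow_right (show 0 < 3 by norm_num) hlt
        omega
      rw [show r = 1 by omega, pow_one]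
    have hDcard : Nat.card D * 3 = 729 := by
      have h' := (D.subgroupOf (P : Subgroup G)).card_mul_index
      rwa [hidxP, hP, Nat.card_congr (Subgroup.subgroupOfEquivOfLe inf_le_left).toEquiv] at h'
    have hidxR : (D.subgroupOf (R : Subgroup G)).index = 3 := by
      have h' := (D.subgroupOf (R : Subgroup G)).card_mul_index
      rw [hR, Nat.card_congr (Subgroup.subgroupOfEquivOfLe inf_le_right).toEquiv, ← hDcard] at h'
      exact Nat.eq_of_mul_eq_mul_left Nat.card_pos h'
    set N := Subgroup.normalizer (D : Set G) with hN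
    have hle : ∀ Q : Sylow 3 G, D ≤ Q → (D.subgroupOf (Q : Subgroup G)).index = 3 → (Q : Subgroup G) ≤ N := by
      intro Q hDQ hQ
      have hn : (D.subgroupOf (Q : Subgroup G)).Normal := by
        refine Subgroup.normal_of_index_eq_minFac_card ?_
        rw [hQ, SimpleTools.card_sylow_subgroup hfac (by norm_num) Q]
        norm_num
      exact (Subgroup.normal_subgroupOf_iff_le_normalizer hDQ).1 hn
    have hPN := hle P inf_le_left hidxP
    have hRN := hle R inf_le_right hidxR
    have hNtop : N ≠ ⊤ := by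
      intro ht
      rcases (Subgroup.normalizer_eq_top_iff.1 ht).eq_bot_or_eq_top with hb | htop
      · rw [hb, Subgroup.card_bot] at hDcard; norm_num at hDcard
      · rw [htop, Subgroup.card_top, h] at hDcard; norm_num at hDcard
    refine hsmall N hNtop ?_
    have h2 : 1 < Nat.card (Sylow 3 N) := by
      rw [Finite.one_lt_card_iff_nontrivial]
      exact ⟨P.subtype hPN, R.subtype hRN, fun e => hPR (Sylow.subtype_injective e)⟩
    have hmod : Nat.card (Sylow 3 N) % 3 = 1 := by
      rw [card_sylow_modEq_one 3 N]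
    have hdvd : Nat.card (Sylow 3 N) ∣ (P.subtype hPN : Subgroup N).index := Sylow.card_dvd_index _
    have hcardP : Nat.card (P.subtype hPN : Subgroup N) = 729 := by
      rw [Sylow.coe_subtype, Nat.card_congr (Subgroup.subgroupOfEquivOfLe hPN).toEquiv, hP]
    have hcardN := (P.subtype hPN : Subgroup N).index_mul_card
    rw [hcardP] at hcardN
    have hi : 4 ≤ (P.subtype hPN : Subgroup N).index :=
      le_trans (by omega) (Nat.le_of_dvd (Nat.pos_of_ne_zero Subgroup.index_ne_zero_of_finite) hdvd)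
    have hN' := N.index_mul_card
    rw [← hcardN, h] at hN'
    nlinarith

variable {P : Sylow 2 G} {σ τ : G} {O : Subgroup G}

/-- The order of the group in terms of the centraliser of an involution. -/
theorem Setup.card_G_odd (S : Setup P σ τ O) :
    ∃ R : ℕ, Odd R ∧ Nat.card G = 8 * (Nat.card (W O τ) * Nat.card (W O (σ * τ))) * R := by
  have : Fact (Nat.Prime 2) := ⟨Nat.prime_two⟩
  obtain ⟨R, hR⟩ : 8 * Nat.card O ∣ Nat.card G := S.card_cent ▸ Subgroup.card_subgroup_dvd_card _
  refine ⟨R, ?_, by rw [← S.card_O]; exact hR⟩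
  rw [Nat.odd_iff, ← Nat.two_dvd_ne_zero]
  intro h2
  refine P.not_dvd_index ?_
  have h := (P : Subgroup G).index_mul_card
  rw [hR, card_sylow S.gen] at h
  norm_num at h
  obtain ⟨r, rfl⟩ := h2
  exact ⟨Nat.card O * r, by linarith⟩

/-- The integers `j`, `e`, `k`. -/
theorem Setup.exists_numbers (S : Setup P σ τ O) (eP : (P : Subgroup G) ≃* DihedralGroup 4) :
    ∃ j e k : ℤ, (Nat.card (W O τ) : ℤ) + Nat.card (W O (σ * τ)) = 2 * j * e ∧ Odd e ∧
      (Nat.card G : ℤ) = 8 * (Nat.card (W O τ) : ℤ) * Nat.card (W O (σ * τ)) *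
        (e ^ 2 * ((8 * j + 1) * (4 * j + 1))) ∧
      k * ((4 * j + 1) ^ 2 * e ^ 2 - 16 * ((Nat.card (W O τ) : ℤ) * Nat.card (W O (σ * τ))))
        = 2 * ((Nat.card (W O τ) : ℤ) * Nat.card (W O (σ * τ))) * (8 * j + 1) := by
  haveI := Fintype.ofFinite G
  have hc : Nat.card (Subgroup.centralizer ({σ} : Set G)) = 4 := by
    have : Subgroup.centralizer ({σ} : Set G) = Subgroup.zpowers σ :=
      le_antisymm (fun x hx => S.cent x (Subgroup.mem_centralizer_singleton_iff.1 hx))
        (Subgroup.zpowers_le.2 (Subgroup.mem_centralizer_singleton_iff.2 rfl))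
    rw [this, Nat.card_zpowers, S.ord_four]
  obtain ⟨u, v, w, hu, hv, hw, hsum, hu1, hform, hA⟩ := block_data eP S.gen S.hone hc
    (Nat.card (W O τ)) (Nat.card (W O (σ * τ))) (by rw [S.card_cent, S.card_O]) S.card_cent_two
    S.swap.card_cent_two
  obtain ⟨R, hRo, hR⟩ := S.card_G_odd
  have hp1 : (0 : ℤ) < Nat.card (W O τ) := by exact_mod_cast Nat.card_pos
  have hp2 : (0 : ℤ) < Nat.card (W O (σ * τ)) := by exact_mod_cast Nat.card_pos
  have hR' : (Nat.card G : ℤ) = 8 * ((Nat.card (W O τ) : ℤ) * Nat.card (W O (σ * τ))) * R := by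
    exact_mod_cast hR
  obtain ⟨j, e, k, -, hM, he, hRe, hk⟩ := degree_data (mul_pos hp1 hp2) (add_pos hp1 hp2) hu hv hw hsum hu1
    (R : ℤ) hR' (by exact_mod_cast hRo) hform hA
  refine ⟨j, e, k, hM, he, ?_, hk⟩
  rw [hR', hRe]; ring

/-- Both components cannot be nontrivial. -/
theorem Setup.not_both (hG : ¬ IsMulCommutative G) (S : Setup P σ τ O)
    (eP : (P : Subgroup G) ≃* DihedralGroup 4) (h1 : 1 < Nat.card (W O τ))
    (h12 : Nat.card (W O τ) ≤ Nat.card (W O (σ * τ))) : False := by
  have : Fact (Nat.Prime 2) := ⟨Nat.prime_two⟩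
  obtain ⟨j, e, k, hM, he, hN, -⟩ := S.exists_numbers eP
  have hne : W O τ ≠ ⊥ := fun h => by rw [h, Subgroup.card_bot] at h1; omega
  have o1 : Odd (Nat.card (W O τ)) := S.odd.of_dvd_nat (Subgroup.card_dvd_of_le inf_le_left)
  have o2 : Odd (Nat.card (W O (σ * τ))) := S.odd.of_dvd_nat (Subgroup.card_dvd_of_le inf_le_left)
  obtain ⟨q, hq, hq12, -⟩ := S.quotient_bound hne
  set N := Subgroup.normalizer (W O τ : Set G) with hNdef
  have hXN : X O τ ≤ N := by
    intro x hx
    refine Subgroup.mem_normalizer_iff.2 fun w => ⟨fun hw => ?_, fun hw => ?_⟩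
    · rw [(mem_X.1 hx w hw).eq, mul_inv_cancel_right]; exact hw
    · have h' := (mem_X.1 hx _ hw).eq
      have e : w = x * w * x⁻¹ := by
        calc w = x⁻¹ * (x * w * x⁻¹) * x := by group
          _ = x⁻¹ * (x * w * x⁻¹ * x) := by group
          _ = x * w * x⁻¹ := by rw [← h']; group
      rw [e]; exact hw
  have hPN : (P : Subgroup G) ≤ N := by
    intro s hs
    have hσ := S.sigma_normalizes
    have hτ : τ ∈ N := hXN (S.four_mem_X (Or.inr (Or.inr (Or.inl rfl))))
    rcases S.gen.cases s hs with ⟨i, rfl⟩ | ⟨i, rfl⟩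
    · exact zpow_mem hσ i
    · exact mul_mem (zpow_mem hσ i) hτ
  have hodd : Odd N.index := by
    rw [Nat.odd_iff, ← Nat.two_dvd_ne_zero]
    exact fun h => P.not_dvd_index (h.trans (Subgroup.index_dvd_of_le hPN))
  have hNtop : N ≠ ⊤ := by
    intro ht
    rcases (Subgroup.normalizer_eq_top_iff.1 ht).eq_bot_or_eq_top with hb | htop
    · exact hne hb
    · refine hG ⟨⟨fun a b => (S.comm ?_ ?_).eq⟩⟩ <;>
        exact (mem_W.1 (htop ▸ Subgroup.mem_top _)).1
  have h2X : 2 * Nat.card (X O τ) ≤ Nat.card N := by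
    obtain ⟨r, hr⟩ := Subgroup.card_dvd_of_le hXN
    rw [hr]
    have hr1 : r ≠ 1 := by
      rintro rfl
      rw [mul_one] at hr
      exact S.sigma_not_mem hne ((Subgroup.eq_of_le_of_card_ge hXN hr.le).symm ▸ S.sigma_normalizes)
    have hr0 : r ≠ 0 := by
      rintro rfl
      exact Nat.card_pos.ne' (hr.trans (mul_zero _))
    rw [mul_comm 2]
    exact Nat.mul_le_mul_left _ (by omega)
  have hle : N.index * (24 * Nat.card (W O τ) * Nat.card (W O (σ * τ)) ^ 3) ≤ Nat.card G := by
    rw [← N.index_mul_card]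
    refine Nat.mul_le_mul_left _ (le_trans ?_ h2X)
    rw [hq]
    calc 24 * Nat.card (W O τ) * Nat.card (W O (σ * τ)) ^ 3
        = 2 * (Nat.card (W O τ) * (12 * Nat.card (W O (σ * τ)) ^ 3)) := by ring
      _ ≤ 2 * (Nat.card (W O τ) * q) := Nat.mul_le_mul_left _ (Nat.mul_le_mul_left _ hq12)
  obtain ⟨-, -, -, h⟩ := both_nontrivial (by rcases o1 with ⟨r, hr⟩; omega) h12 o1 o2 hM he hN hodd
    (fun h => hNtop (Subgroup.index_eq_one.1 h)) hle (SimpleTools.two_mul_card_dvd_factorial hG N hNtop)
  exact no_29160 hG h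

end CfsgLib.SelfCentFour
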