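import Cfsg.Agent.Lib.SelfCentFour.Seven
import Cfsg.Agent.Lib.SelfCentFour.Large
import Cfsg.Agent.S0495
import Cfsg.Agent.S0497
import Cfsg.Agent.S0848

/-!
# Self-centralising elements of order four: the list of groups
-/

set_option autoImplicit false
set_option linter.unusedSectionVars false

namespace CfsgLib.SelfCentFour

open scoped commutatorElement
open CfsgLib.Involution CfsgLib.Involution.DihedralSylow CfsgLib.SmallGroups

variable {G : Type*} [Group G] [Finite G] [IsSimpleGroup G] {P : Sylow 2 G} {σ τ : G} {O : Subgroup G}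

/-- The three groups. -/
def Answer (G : Type*) [Group G] : Prop :=
  Nonempty (G ≃* alternatingGroup (Fin 6)) ∨ Nonempty (G ≃* alternatingGroup (Fin 7)) ∨
    ∃ (F : Type) (_ : Field F) (_ : Fintype F), Fintype.card F = 7 ∧
      Nonempty (G ≃* Matrix.ProjectiveSpecialLinearGroup (Fin 2) F)

omit [IsSimpleGroup G] in
theorem Setup.W_swap (S : Setup P σ τ O) : W O (σ * (σ * τ)) = W O τ := by
  ext x
  rw [mem_W, mem_W, ← mul_assoc, ← pow_two]
  refine and_congr_right fun hx => ⟨fun h => ?_, fun h => (S.le x hx).mul_right h⟩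
  have h' := (S.le x hx).mul_right h
  rwa [← mul_assoc, S.t_sq, one_mul] at h'

/-- The normaliser of `W(τ)` over its centraliser. -/
theorem Setup.exists_ratio (S : Setup P σ τ O) (hne : W O τ ≠ ⊥) (hp : (Nat.card (W O τ)).Prime) :
    ∃ r : ℕ, 2 ≤ r ∧ r ∣ Nat.card (W O τ) - 1 ∧
      Nat.card (Subgroup.normalizer (W O τ : Set G)) = Nat.card (X O τ) * r := by
  have : Fact (Nat.card (W O τ)).Prime := ⟨hp⟩
  have hcyc : IsCyclic (W O τ) := isCyclic_of_prime_card rfl
  set N := Subgroup.normalizer (W O τ : Set G) with hN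
  have hXN : X O τ ≤ N := by
    intro x hx
    refine Subgroup.mem_normalizer_iff.2 fun w => ⟨fun hw => ?_, fun hw => ?_⟩
    · rw [(mem_X.1 hx w hw).eq, mul_inv_cancel_right]; exact hw
    · have h' := (mem_X.1 hx _ hw).eq
      have e : w = x * w * x⁻¹ := by
        calc w = x⁻¹ * (x * w * x⁻¹ * x) := by group
          _ = x * w * x⁻¹ := by rw [← h']; group
      rw [e]; exact hw
  obtain ⟨r, hr⟩ := Subgroup.card_dvd_of_le hXN
  refine ⟨r, ?_, ?_, hr⟩
  · have hr1 : r ≠ 1 := by
      rintro rfl
      rw [mul_one] at hr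
      exact S.sigma_not_mem hne ((Subgroup.eq_of_le_of_card_ge hXN hr.le).symm ▸ S.sigma_normalizes)
    have hr0 : r ≠ 0 := by
      rintro rfl
      exact Nat.card_pos.ne' (hr.trans (mul_zero _))
    omega
  · have h := Subgroup.card_dvd_of_injective _ (QuotientGroup.kerLift_injective (W O τ).normalizerMonoidHom)
    rw [IsCyclic.card_mulAut, Nat.totient_prime hp] at h
    refine dvd_trans ?_ h
    have h2 := Subgroup.card_eq_card_quotient_mul_card_subgroup (W O τ).normalizerMonoidHom.ker
    have h3 : Nat.card (W O τ).normalizerMonoidHom.ker = Nat.card (X O τ) := by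
      rw [Subgroup.normalizerMonoidHom_ker]
      exact Nat.card_congr (Subgroup.subgroupOfEquivOfLe hXN).toEquiv
    rw [h3, hr, mul_comm _ (Nat.card (X O τ))] at h2
    rw [Nat.eq_of_mul_eq_mul_left Nat.card_pos h2]

/-- Exactly one component is nontrivial. -/
theorem Setup.classify_one (hG : ¬ IsMulCommutative G) (S : Setup P σ τ O)
    (eP : (P : Subgroup G) ≃* DihedralGroup 4) (h2 : Nat.card (W O (σ * τ)) = 1)
    (h1 : Nat.card (W O τ) ≠ 1) : Answer G := by
  have o1 : Odd (Nat.card (W O τ)) := S.odd.of_dvd_nat (Subgroup.card_dvd_of_le inf_le_left)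
  have hO : O = W O τ :=
    (Subgroup.eq_of_le_of_card_ge inf_le_left (by rw [S.card_O, h2, mul_one]; exact le_rfl)).symm
  have hne : W O τ ≠ ⊥ := fun h => h1 (by rw [h, Subgroup.card_bot])
  obtain ⟨j, e, k, hM, he, hN, hk⟩ := S.exists_numbers eP
  rw [h2] at hM hN hk
  push_cast at hM hN hk
  simp only [mul_one] at hM hN hk
  have hm : (3 : ℤ) ≤ Nat.card (W O τ) := by
    obtain ⟨r, hr⟩ := o1
    omega
  obtain ⟨q, hq, -, hq1⟩ := S.quotient_bound hne
  rcases one_trivial hm hM he hk with ⟨hm3, rfl, rfl⟩ | ⟨hm5, rfl, rfl⟩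
  · -- order 2520
    have h3 : Nat.card (W O τ) = 3 := by exact_mod_cast hm3
    rw [hm3] at hN
    norm_num at hN
    have hcard : Nat.card G = 2520 := by exact_mod_cast hN
    refine Or.inr (Or.inl ?_)
    rcases hq1 h2 with rfl | rfl
    · exact S.iso_seven_of_small hO h3 (by rw [hq, h3]) hcard
    · obtain ⟨r, hr2, hrd, hr⟩ := S.exists_ratio hne (h3 ▸ Nat.prime_three)
      rw [h3] at hrd
      have hr' : r = 2 := le_antisymm (Nat.le_of_dvd (by norm_num) hrd) hr2
      rw [hq, h3, hr'] at hr
      set N := Subgroup.normalizer (W O τ : Set G) with hNd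
      have hidx : N.index = 7 := by
        have h := N.index_mul_card
        rw [hr, hcard] at h
        omega
      have hNtop : N ≠ ⊤ := fun h => by rw [h, Subgroup.index_top] at hidx; omega
      obtain ⟨f, hf⟩ := SimpleTools.exists_embedding hG N hNtop
      have hc : Nat.card G = Nat.card (alternatingGroup (Fin N.index)) := by
        rw [hidx, nat_card_alternatingGroup, Nat.card_fin, hcard]; rfl
      rw [← hidx]
      exact ⟨MulEquiv.ofBijective f ((Nat.bijective_iff_injective_and_card f).2 ⟨hf, hc⟩)⟩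
  · -- order 7560 is impossible
    exfalso
    have h5 : Nat.card (W O τ) = 5 := by exact_mod_cast hm5
    rw [hm5] at hN
    norm_num at hN
    have hcard : Nat.card G = 7560 := by exact_mod_cast hN
    have : Fact (Nat.Prime 5) := ⟨by norm_num⟩
    obtain ⟨r, hr2, hrd, hr⟩ := S.exists_ratio hne (h5 ▸ (by norm_num : Nat.Prime 5))
    rw [h5] at hrd
    rw [hq, h5] at hr
    set N := Subgroup.normalizer (W O τ : Set G) with hNd
    have hdvd : 5 * q * r ∣ 7560 := hr ▸ hcard ▸ Subgroup.card_subgroup_dvd_card N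
    have hr4 : r ≤ 4 := Nat.le_of_dvd (by norm_num) hrd
    have hidx : N.index * (5 * q * r) = 7560 := by rw [← hr, ← hcard, Subgroup.index_mul_card]
    -- `W` is a Sylow subgroup
    obtain ⟨Q, hQ⟩ := (IsPGroup.of_card (p := 5) (n := 1) (by rw [h5]; norm_num) : IsPGroup 5 (W O τ)).exists_le_sylow
    have hQ5 : Nat.card (Q : Subgroup G) = 5 :=
      SimpleTools.card_sylow_subgroup (m := 1512) (k := 1) (by rw [hcard]; norm_num) (by norm_num) Q
    have hQW : (Q : Subgroup G) = W O τ := (Subgroup.eq_of_le_of_card_ge hQ (by rw [h5, hQ5])).symm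
    have hn : Nat.card (Sylow 5 G) = N.index := by
      rw [Q.card_eq_index_normalizer]
      show (Subgroup.normalizer ((Q : Subgroup G) : Set G)).index = N.index
      rw [hQW]
    have hmod : N.index % 5 = 1 := by rw [← hn]; exact card_sylow_modEq_one 5 G
    rcases hq1 h2 with rfl | rfl <;> interval_cases r <;> omega

/-- The groups of the configuration. -/
theorem Setup.classify (hG : ¬ IsMulCommutative G) (S : Setup P σ τ O)
    (eP : (P : Subgroup G) ≃* DihedralGroup 4) : Answer G := by
  have hp1 : 0 < Nat.card (W O τ) := Nat.card_pos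
  have hp2 : 0 < Nat.card (W O (σ * τ)) := Nat.card_pos
  by_cases h2 : Nat.card (W O (σ * τ)) = 1
  · by_cases h1 : Nat.card (W O τ) = 1
    · -- the centraliser is the Sylow subgroup
      have hC : Nat.card (Subgroup.centralizer ({σ ^ 2} : Set G)) = 8 := by
        rw [S.card_cent, S.card_O, h1, h2]
      have hPC : (P : Subgroup G) = Subgroup.centralizer ({σ ^ 2} : Set G) := by
        refine Subgroup.eq_of_le_of_card_ge
          (fun s hs => Subgroup.mem_centralizer_singleton_iff.2 (S.comm_t hs).eq) ?_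
        rw [hC, card_sylow S.gen]; norm_num
      have hperf : commutator G = ⊤ := by
        have hn : (commutator G).Normal := inferInstance
        refine hn.eq_bot_or_eq_top.resolve_left fun h => hG ?_
        refine ⟨⟨fun a b => ?_⟩⟩
        have hm : ⁅a, b⁆ ∈ commutator G := Subgroup.commutator_mem_commutator (Subgroup.mem_top a) (Subgroup.mem_top b)
        rw [h, Subgroup.mem_bot] at hm
        exact commutatorElement_eq_one_iff_mul_comm.1 hm
      rcases Cfsg.Agent.S0848.result hperf (σ ^ 2) S.t_order ((MulEquiv.subgroupCongr hPC.symm).trans eP)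
        with h | h
      · exact Or.inr (Or.inr ⟨ZMod 7, @ZMod.instField 7 ⟨by norm_num⟩, ZMod.fintype 7, ZMod.card 7,
          @Cfsg.Agent.S0495.result G _ _ _ h (ZMod 7) (@ZMod.instField 7 ⟨by norm_num⟩) (ZMod.fintype 7) (ZMod.card 7)⟩)
      · exact Or.inl (Cfsg.Agent.S0497.result h)
    · exact S.classify_one hG eP h2 h1
  · by_cases h1 : Nat.card (W O τ) = 1
    · exact S.swap.classify_one hG eP (by rw [S.W_swap, h1]) h2
    · exfalso
      rcases le_total (Nat.card (W O τ)) (Nat.card (W O (σ * τ))) with h | h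
      · exact S.not_both hG eP (by omega) h
      · exact S.swap.not_both hG eP (by omega) (by rw [S.W_swap]; exact h)

end CfsgLib.SelfCentFour
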