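import Cfsg.Agent.Lib.SelfCentFour.Setup

/-!
# Self-centralising elements of order four: fusion in a four-group

Some element permutes the three involutions of `⟨t, τ⟩` cyclically and centralises `W(τ)`.
-/

set_option autoImplicit false
set_option linter.unusedSectionVars false

namespace CfsgLib.SelfCentFour

open CfsgLib.Involution CfsgLib.Involution.DihedralSylow

variable {G : Type*} [Group G] [Finite G] {P : Sylow 2 G} {σ τ : G} {O : Subgroup G}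
  (S : Setup P σ τ O)
include S

theorem Setup.rot_pow_four : σ ^ 4 = 1 := S.ord_four ▸ pow_orderOf_eq_one σ

theorem Setup.t_sq : σ ^ 2 * σ ^ 2 = 1 := by rw [← pow_add]; exact S.rot_pow_four

theorem Setup.sigma_tau : σ * τ * σ⁻¹ = σ ^ 2 * τ := by
  have h := conj_rot S.gen 1 0
  rw [zpow_zero, one_mul, zpow_one] at h
  rw [h]; norm_num [zpow_ofNat]

theorem Setup.sigma_ttau : σ * (σ ^ 2 * τ) * σ⁻¹ = τ := by
  rw [show σ * (σ ^ 2 * τ) * σ⁻¹ = σ ^ 2 * (σ * τ * σ⁻¹) by group, S.sigma_tau, ← mul_assoc, S.t_sq, one_mul]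

theorem Setup.exists_sqrt {o : G} (ho : o ∈ O) : ∃ q ∈ O, q * q = o := by
  obtain ⟨n, hn⟩ := S.odd
  refine ⟨o ^ (n + 1), pow_mem ho _, ?_⟩
  have h : o ^ Nat.card O = 1 := by
    exact congrArg Subtype.val (pow_card_eq_one' (x := (⟨o, ho⟩ : O)))
  rw [← pow_add, show n + 1 + (n + 1) = 2 * n + 1 + 1 by ring, ← hn, pow_succ, h, one_mul]

/-- An involution of `C(t)` is conjugate into `P` by an element of `O`. -/
theorem Setup.conj_into {x : G} (hx : Commute x (σ ^ 2)) (h2 : x * x = 1) :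
    ∃ q ∈ O, q⁻¹ * x * q ∈ (P : Subgroup G) := by
  obtain ⟨o, ho, s, hs, rfl⟩ := S.decomp x hx
  have e : o * (s * o * s⁻¹) = (s * s)⁻¹ := by
    rw [← mul_left_inj (s * s), inv_mul_cancel, ← h2]; group
  have hss : s * s = 1 := inv_eq_one.1 (S.disjoint (e ▸ mul_mem ho (S.conj_mem hs ho)) (inv_mem (mul_mem hs hs)))
  rw [hss, inv_one] at e
  obtain ⟨q, hq, rfl⟩ := S.exists_sqrt ho
  refine ⟨q, hq, ?_⟩
  have hsq := S.conj_mem hs hq
  have hz : q * (s * q * s⁻¹) * (q * (s * q * s⁻¹)) = 1 := by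
    rw [show s * (q * q) * s⁻¹ = (s * q * s⁻¹) * (s * q * s⁻¹) by group] at e
    rw [← e, ((S.comm hsq hq)).mul_mul_mul_comm q (s * q * s⁻¹)]
  have hz1 := odd_pow_two_injective S.odd (mul_mem hq hsq) hz
  rw [show q⁻¹ * (q * q * s) * q = q * (s * q * s⁻¹) * s by group, hz1, one_mul]
  exact hs

/-- The four-group and its companion are not conjugate in the centraliser of `t`. -/
theorem Setup.no_conj {c : G} (hc : Commute c (σ ^ 2))
    (he : c * τ * c⁻¹ = σ * τ ∨ c * τ * c⁻¹ = σ ^ 2 * (σ * τ)) : False := by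
  obtain ⟨o, ho, s, hs, rfl⟩ := S.decomp c hc
  have hb : s * τ * s⁻¹ = τ ∨ s * τ * s⁻¹ = σ ^ 2 * τ := by
    have key : ∀ i : ℤ, σ ^ (2 * i) * τ = τ ∨ σ ^ (2 * i) * τ = σ ^ 2 * τ := by
      intro i
      have h : σ ^ (2 * i) * σ ^ (2 * i) = 1 := by
        rw [← zpow_add, show 2 * i + 2 * i = (4 : ℕ) * i by push_cast; ring, zpow_mul, zpow_natCast,
          S.rot_pow_four, one_zpow]
      rcases zpow_involution S.gen h with e | e
      · exact Or.inl (by rw [e, one_mul])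
      · exact Or.inr (by rw [e, ← S.t_eq])
    rcases S.gen.cases s hs with ⟨i, rfl⟩ | ⟨i, rfl⟩
    · have h := conj_rot S.gen i 0
      rw [zpow_zero, one_mul, zero_add] at h
      rw [h]; exact key i
    · have h := refl_conj S.gen i 0
      rw [zpow_zero, one_mul, sub_zero] at h
      rw [h]; exact key i
  set b := s * τ * s⁻¹ with hbd
  have hbP : b ∈ (P : Subgroup G) := mul_mem (mul_mem hs S.gen.bmem) (inv_mem hs)
  rw [show o * s * τ * (o * s)⁻¹ = o * b * o⁻¹ by rw [hbd]; group] at he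
  have key : o * b * o⁻¹ ∈ (P : Subgroup G) → o * b * o⁻¹ = b := fun h => by
    have h' : o * (b * o⁻¹ * b⁻¹) = o * b * o⁻¹ * b⁻¹ := by group
    exact mul_inv_eq_one.1 (S.disjoint (h' ▸ mul_mem ho (S.conj_mem hbP (inv_mem ho)))
      (mul_mem h (inv_mem hbP)))
  have hst : σ * τ ∈ (P : Subgroup G) := mul_mem S.gen.amem S.gen.bmem
  have hσ1 : σ ≠ 1 := fun e => by
    have := S.ord_four; rw [e, orderOf_one] at this; norm_num at this
  have hσt : σ ≠ σ ^ 2 := fun e => hσ1 (mul_left_cancel (a := σ) (by rw [mul_one, ← pow_two]; exact e.symm))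
  have h3 : σ ^ 2 * σ ≠ 1 := fun e => by
    have h' := orderOf_dvd_of_pow_eq_one (by rw [← pow_succ] at e; exact e : σ ^ (2 + 1) = 1)
    rw [S.ord_four] at h'; norm_num at h'
  rcases he with he | he
  · have hk := (key (he ▸ hst)).symm.trans he
    rcases hb with h | h <;> rw [h] at hk
    · exact hσ1 (mul_eq_right.1 hk.symm)
    · exact hσt (mul_right_cancel hk).symm
  · have hk := (key (he ▸ mul_mem (pow_mem S.gen.amem 2) hst)).symm.trans he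
    rw [← mul_assoc] at hk
    rcases hb with h | h <;> rw [h] at hk
    · exact h3 (mul_eq_right.1 hk.symm)
    · exact hσ1 (mul_eq_left.1 (mul_right_cancel hk).symm)

theorem Setup.tau_ne : τ ≠ σ ^ 2 := fun e => S.gen.nb (e ▸ Subgroup.npow_mem_zpowers σ 2)

/-- Conjugation taking `τ` to `t`. -/
theorem Setup.exists_move : ∃ z u : G, z * τ * z⁻¹ = σ ^ 2 ∧ z * σ ^ 2 * z⁻¹ = u ∧
    (u = τ ∨ u = σ ^ 2 * τ ∨ u = σ * τ ∨ u = σ ^ 2 * (σ * τ)) := by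
  have hto : orderOf τ = 2 := by simpa using refl_orderOf S.gen 0
  obtain ⟨z, hz⟩ := isConj_iff.1 (S.hone τ (σ ^ 2) hto S.t_order)
  have hcm : Commute (z * σ ^ 2 * z⁻¹) (σ ^ 2) := by
    have h := (S.comm_t S.gen.bmem).symm.map (MulAut.conj z).toMonoidHom
    simpa [hz] using h
  have h2 : z * σ ^ 2 * z⁻¹ * (z * σ ^ 2 * z⁻¹) = 1 := by
    rw [show z * σ ^ 2 * z⁻¹ * (z * σ ^ 2 * z⁻¹) = z * (σ ^ 2 * σ ^ 2) * z⁻¹ by group, S.t_sq]; group
  obtain ⟨q, hq, hqP⟩ := S.conj_into hcm h2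
  have hz' : q⁻¹ * z * τ * (q⁻¹ * z)⁻¹ = σ ^ 2 := by
    rw [show q⁻¹ * z * τ * (q⁻¹ * z)⁻¹ = q⁻¹ * (z * τ * z⁻¹) * q by group, hz, mul_assoc,
      ← (S.le q hq).eq, inv_mul_cancel_left]
  refine ⟨q⁻¹ * z, q⁻¹ * (z * σ ^ 2 * z⁻¹) * q, hz', by group, ?_⟩
  set u := q⁻¹ * (z * σ ^ 2 * z⁻¹) * q with hu
  have hu2 : u * u = 1 := by
    rw [hu, show q⁻¹ * (z * σ ^ 2 * z⁻¹) * q * (q⁻¹ * (z * σ ^ 2 * z⁻¹) * q)
      = q⁻¹ * (z * σ ^ 2 * z⁻¹ * (z * σ ^ 2 * z⁻¹)) * q by group, h2]; group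
  rcases involution_cases S.gen hqP hu2 with e | e | ⟨i, e⟩
  · exfalso
    apply Dihedral.ne_one S.t_order
    rw [hu] at e
    have := congrArg (fun x => z⁻¹ * (q * x * q⁻¹) * z) e
    simpa [mul_assoc] using this
  · exfalso
    rw [← S.t_eq, ← hz', show u = q⁻¹ * z * σ ^ 2 * (q⁻¹ * z)⁻¹ by rw [hu]; group] at e
    exact S.tau_ne (mul_left_cancel (mul_right_cancel e)).symm
  · rw [e]
    obtain ⟨l, hl, el⟩ : ∃ l : ℕ, l < 4 ∧ σ ^ i = σ ^ l := by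
      refine ⟨(i % 4).toNat, by omega, ?_⟩
      rw [← zpow_natCast, Int.toNat_of_nonneg (Int.emod_nonneg _ (by norm_num)),
        ← show ((orderOf σ : ℕ) : ℤ) = 4 by rw [S.ord_four]; rfl, zpow_mod_orderOf]
    rw [el]
    interval_cases l
    · simp
    · simp
    · simp
    · right; right; right; rw [← mul_assoc, ← pow_succ]

/-- The partner of `t` lies in one four-group or the other. -/
theorem Setup.exists_move_to {w : G} (hw : w = τ ∨ w = σ ^ 2 * τ) :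
    (∃ z : G, z * τ * z⁻¹ = σ ^ 2 ∧ z * σ ^ 2 * z⁻¹ = w) ∨
      ∀ w' : G, w' = σ * τ ∨ w' = σ ^ 2 * (σ * τ) → ∃ z : G, z * τ * z⁻¹ = σ ^ 2 ∧ z * σ ^ 2 * z⁻¹ = w' := by
  obtain ⟨z, u, hz, hzu, hu⟩ := S.exists_move
  have hzs : σ * z * τ * (σ * z)⁻¹ = σ ^ 2 := by
    rw [show σ * z * τ * (σ * z)⁻¹ = σ * (z * τ * z⁻¹) * σ⁻¹ by group, hz]; group
  have hzus : σ * z * σ ^ 2 * (σ * z)⁻¹ = σ * u * σ⁻¹ := by rw [← hzu]; group
  rcases hu with rfl | rfl | rfl | rfl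
  · left
    rcases hw with rfl | rfl
    · exact ⟨z, hz, hzu⟩
    · exact ⟨σ * z, hzs, hzus.trans S.sigma_tau⟩
  · left
    rcases hw with rfl | rfl
    · exact ⟨σ * z, hzs, hzus.trans S.sigma_ttau⟩
    · exact ⟨z, hz, hzu⟩
  · right
    rintro w' (rfl | rfl)
    · exact ⟨z, hz, hzu⟩
    · exact ⟨σ * z, hzs, hzus.trans S.swap.sigma_tau⟩
  · right
    rintro w' (rfl | rfl)
    · exact ⟨σ * z, hzs, hzus.trans S.swap.sigma_ttau⟩
    · exact ⟨z, hz, hzu⟩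

/-- The three involutions of `⟨t, τ⟩` are permuted cyclically. -/
theorem Setup.exists_cycle : ∃ n : G, n * σ ^ 2 * n⁻¹ = τ ∧ n * τ * n⁻¹ = σ ^ 2 * τ := by
  have hc : ∀ {a b : G} (f : G), f * (a * b) * f⁻¹ = f * a * f⁻¹ * (f * b * f⁻¹) := fun f => by group
  rcases S.exists_move_to (Or.inr rfl) with ⟨z, hz, hzt⟩ | hall
  · refine ⟨z * z, ?_, ?_⟩
    · rw [show z * z * σ ^ 2 * (z * z)⁻¹ = z * (z * σ ^ 2 * z⁻¹) * z⁻¹ by group, hzt, hc, hzt, hz,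
        mul_assoc, ← (S.comm_t S.gen.bmem).symm.eq, ← mul_assoc, S.t_sq, one_mul]
    · rw [show z * z * τ * (z * z)⁻¹ = z * (z * τ * z⁻¹) * z⁻¹ by group, hz, hzt]
  obtain ⟨z, hz, hzt⟩ := hall _ (Or.inr rfl)
  have hst : σ * (σ * τ) = σ ^ 2 * τ := by rw [← mul_assoc, ← pow_two]
  have htσ : σ ^ 2 * (σ * (σ * τ)) = τ := by rw [hst, ← mul_assoc, S.t_sq, one_mul]
  rcases S.swap.exists_move_to (w := σ * τ) (Or.inl rfl) with ⟨z', hz', hzt'⟩ | hall'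
  · exfalso
    obtain ⟨y, hy, hyt⟩ := hall _ (Or.inl rfl)
    refine S.no_conj (c := z' * y) (mul_inv_eq_iff_eq_mul.1 ?_) (Or.inl ?_)
    · rw [show z' * y * σ ^ 2 * (z' * y)⁻¹ = z' * (y * σ ^ 2 * y⁻¹) * z'⁻¹ by group, hyt, hz']
    · rw [show z' * y * τ * (z' * y)⁻¹ = z' * (y * τ * y⁻¹) * z'⁻¹ by group, hy, hzt']
  · obtain ⟨z', hz', hzt'⟩ := hall' _ (Or.inr htσ.symm)
    refine ⟨σ * (z' * z), ?_, ?_⟩
    · rw [show σ * (z' * z) * σ ^ 2 * (σ * (z' * z))⁻¹ = σ * (z' * (z * σ ^ 2 * z⁻¹) * z'⁻¹) * σ⁻¹ by group,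
        hzt, hc z', hzt', hz', ← (S.comm_t S.gen.bmem).symm.eq]
      exact S.sigma_ttau
    · rw [show σ * (z' * z) * τ * (σ * (z' * z))⁻¹ = σ * (z' * (z * τ * z⁻¹) * z'⁻¹) * σ⁻¹ by group, hz,
        hzt', S.sigma_tau]

/-- An element centralising `t` and `τ` centralises `W(τ)`. -/
theorem Setup.centralizes_W {x w : G} (hx : Commute x (σ ^ 2)) (hxτ : Commute x τ) (hw : w ∈ W O τ) :
    x * w * x⁻¹ = w := by
  obtain ⟨o, ho, s, hs, rfl⟩ := S.decomp_two hx hxτ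
  obtain ⟨hwO, hwτ⟩ := mem_W.1 hw
  have hsw : Commute s w := by
    rcases hs with rfl | rfl | rfl | rfl
    · exact Commute.one_left _
    · exact (S.le w hwO).symm
    · exact hwτ.symm
    · exact ((S.le w hwO).symm).mul_left hwτ.symm
  rw [((S.comm (mem_W.1 ho).1 hwO).mul_left hsw).eq, mul_inv_cancel_right]

/-- An element permuting the three involutions maps `W(τ)` into itself. -/
theorem Setup.cycle_maps_W {n : G} (h1 : n * σ ^ 2 * n⁻¹ = τ) (h2 : n * τ * n⁻¹ = σ ^ 2 * τ) {w : G}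
    (hw : w ∈ W O τ) : n * w * n⁻¹ ∈ W O τ := by
  obtain ⟨hwO, hwτ⟩ := mem_W.1 hw
  set x := n * w * n⁻¹ with hxd
  have c1 : Commute x τ := by
    have h := (S.le w hwO).map (MulAut.conj n).toMonoidHom
    simpa [h1] using h
  have c2 : Commute x (σ ^ 2 * τ) := by
    have h := hwτ.map (MulAut.conj n).toMonoidHom
    simpa [h2] using h
  have c3 : Commute x (σ ^ 2) := by
    have h := c2.mul_right c1
    rwa [mul_assoc, S.gen.bb, mul_one] at h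
  obtain ⟨o, ho, s, hs, he⟩ := S.decomp_two c3 c1
  have hos : Commute o s := by
    obtain ⟨hoO, hoτ⟩ := mem_W.1 ho
    rcases hs with rfl | rfl | rfl | rfl
    · exact Commute.one_right _
    · exact S.le o hoO
    · exact hoτ
    · exact (S.le o hoO).mul_right hoτ
  have hsP : s ∈ (P : Subgroup G) := by
    rcases hs with rfl | rfl | rfl | rfl
    · exact one_mem _
    · exact pow_mem S.gen.amem 2
    · exact S.gen.bmem
    · exact mul_mem (pow_mem S.gen.amem 2) S.gen.bmem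
  have hs2 : s ^ 2 = 1 := by
    rcases hs with rfl | rfl | rfl | rfl
    · exact one_pow _
    · rw [pow_two]; exact S.t_sq
    · rw [pow_two]; exact S.gen.bb
    · rw [(S.comm_t S.gen.bmem).symm.mul_pow, pow_two (σ ^ 2), S.t_sq, pow_two, S.gen.bb, one_mul]
  obtain ⟨r, hr⟩ := S.odd
  have hwd : w ^ (2 * r + 1) = 1 := by
    rw [← hr]
    exact congrArg Subtype.val (pow_card_eq_one' (x := (⟨w, hwO⟩ : O)))
  have hxd' : x ^ (2 * r + 1) = 1 := by rw [hxd, conj_pow, hwd]; group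
  rw [he, hos.mul_pow] at hxd'
  have hsr : s ^ (2 * r + 1) = s := by rw [pow_succ, pow_mul, hs2, one_pow, one_mul]
  rw [hsr] at hxd'
  have hs1 : s = 1 := S.disjoint (eq_inv_of_mul_eq_one_right hxd' ▸
    inv_mem (pow_mem (mem_W.1 ho).1 _)) hsP
  rw [he, hs1, mul_one]
  exact ho

/-- The cycle centralises `W(τ)`. -/
theorem Setup.cycle_centralizes {n : G} (h1 : n * σ ^ 2 * n⁻¹ = τ) (h2 : n * τ * n⁻¹ = σ ^ 2 * τ) {w : G}
    (hw : w ∈ W O τ) : n * w * n⁻¹ = w := by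
  have h3 : n * (σ ^ 2 * τ) * n⁻¹ = σ ^ 2 := by
    rw [show n * (σ ^ 2 * τ) * n⁻¹ = (n * σ ^ 2 * n⁻¹) * (n * τ * n⁻¹) by group, h1, h2,
      (S.comm_t S.gen.bmem).symm.eq, ← mul_assoc, S.gen.bb, one_mul]
  have hw1 := S.cycle_maps_W h1 h2 hw
  have hinv : ∀ {v : G}, v ∈ W O τ → σ⁻¹ * v * σ = v⁻¹ := fun {v} hv => by
    have h := S.inverts (inv_mem (mem_W.1 hv).1)
    rw [inv_inv] at h
    nth_rewrite 1 [← h]
    group
  -- `n` has order dividing two on `W`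
  set c := σ * n * σ⁻¹ * n with hc
  have hct : c * σ ^ 2 * c⁻¹ = σ ^ 2 := by
    rw [hc, show σ * n * σ⁻¹ * n * σ ^ 2 * (σ * n * σ⁻¹ * n)⁻¹
      = σ * (n * (σ⁻¹ * (n * σ ^ 2 * n⁻¹) * σ) * n⁻¹) * σ⁻¹ by group, h1,
      show σ⁻¹ * τ * σ = σ ^ 2 * τ by
        nth_rewrite 1 [← S.sigma_ttau]; group, h3]
    group
  have hcτ : c * τ * c⁻¹ = τ := by
    rw [hc, show σ * n * σ⁻¹ * n * τ * (σ * n * σ⁻¹ * n)⁻¹
      = σ * (n * (σ⁻¹ * (n * τ * n⁻¹) * σ) * n⁻¹) * σ⁻¹ by group, h2,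
      show σ⁻¹ * (σ ^ 2 * τ) * σ = τ by
        nth_rewrite 1 [← S.sigma_tau]; group, h2, S.sigma_ttau]
  have e2 := S.centralizes_W (mul_inv_eq_iff_eq_mul.1 hct) (mul_inv_eq_iff_eq_mul.1 hcτ) hw
  rw [hc, show σ * n * σ⁻¹ * n * w * (σ * n * σ⁻¹ * n)⁻¹
      = σ * (n * (σ⁻¹ * (n * w * n⁻¹) * σ) * n⁻¹) * σ⁻¹ by group, hinv hw1] at e2
  have hw2 := S.cycle_maps_W h1 h2 hw1
  have hconj : n * (n * w * n⁻¹)⁻¹ * n⁻¹ = (n * (n * w * n⁻¹) * n⁻¹)⁻¹ := by simp only [mul_inv_rev, inv_inv, mul_assoc]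
  rw [hconj, S.inverts (inv_mem (mem_W.1 hw2).1), inv_inv] at e2
  -- `n` has order dividing three on `W`
  have d1 : n * n * n * σ ^ 2 * (n * n * n)⁻¹ = σ ^ 2 := by
    rw [show n * n * n * σ ^ 2 * (n * n * n)⁻¹ = n * (n * (n * σ ^ 2 * n⁻¹) * n⁻¹) * n⁻¹ by group, h1, h2, h3]
  have d2 : n * n * n * τ * (n * n * n)⁻¹ = τ := by
    rw [show n * n * n * τ * (n * n * n)⁻¹ = n * (n * (n * τ * n⁻¹) * n⁻¹) * n⁻¹ by group, h2, h3, h1]
  have e3 := S.centralizes_W (mul_inv_eq_iff_eq_mul.1 d1) (mul_inv_eq_iff_eq_mul.1 d2) hw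
  rw [show n * n * n * w * (n * n * n)⁻¹ = n * (n * (n * w * n⁻¹) * n⁻¹) * n⁻¹ by group, e2] at e3
  exact e3

end CfsgLib.SelfCentFour
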