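import Cfsg.Agent.S0948
import Cfsg.Agent.S4479
import Cfsg.Agent.Lib.DegreeTools.TISum
import Cfsg.Agent.Lib.Char.Orth
import Cfsg.Agent.Lib.Blocks.Basic
import Cfsg.Agent.Lib.SelfCentFour.Fusion

/-!
# Self-centralising elements of order four: the centraliser of `W(τ)`

`X = C(W)` has Sylow 2-subgroup a four-group and one class of involutions, so the order formula of the
principal 2-block bounds `|X / W|` from below.
-/

set_option autoImplicit false
set_option linter.unusedSectionVars false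

namespace CfsgLib.SelfCentFour

open Cfsg CfsgLib CfsgLib.Involution CfsgLib.Involution.DihedralSylow
open scoped Classical

/-- The shape of `|Q| = 32 k³ α`. -/
theorem klein_numbers {Q k : ℕ} (a b c : ℕ) (ε : ℤ) (hε : ε = 1 ∨ ε = -1) (ha : 0 < a) (hb : 0 < b)
    (hc : 0 < c) (ca : (4 : ℤ) ∣ (a : ℤ) - 1) (cb : (4 : ℤ) ∣ (b : ℤ) - ε) (cc : (4 : ℤ) ∣ (c : ℤ) + 1)
    (hsum : 1 + (a : ℤ) + ε * b - c = 0) (hsq : 1 + a ^ 2 + b ^ 2 + c ^ 2 ≤ Q)
    (hQ : (Q : ℚ) = 32 * (k : ℚ) ^ 3 * ((a : ℚ) * b * c / (((a : ℚ) + 1) * ((b : ℚ) + ε) * ((c : ℚ) + -1)))) :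
    12 * k ^ 3 ≤ Q ∧ (k = 1 → Q = 12 ∨ Q = 60) := by
  have hc3 : 3 ≤ c := by omega
  have hcq : (3 : ℚ) ≤ c := by exact_mod_cast hc3
  have haq : (1 : ℚ) ≤ a := by exact_mod_cast ha
  have hbq : (1 : ℚ) ≤ b := by exact_mod_cast hb
  rcases hε with rfl | rfl
  · -- `c = 1 + a + b`
    have hcab : c = 1 + a + b := by omega
    subst hcab
    push_cast at hQ
    have hden : (0 : ℚ) < ((a : ℚ) + 1) * ((b : ℚ) + 1) * (1 + (a : ℚ) + b + -1) := by
      have : (0 : ℚ) < (1 + (a : ℚ) + b + -1) := by linarith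
      positivity
    rw [mul_div_assoc', eq_div_iff hden.ne'] at hQ
    have hQ' : Q * ((a + 1) * (b + 1) * (a + b)) = 32 * k ^ 3 * (a * b * (1 + a + b)) := by
      have : ((Q * ((a + 1) * (b + 1) * (a + b)) : ℕ) : ℚ) = ((32 * k ^ 3 * (a * b * (1 + a + b)) : ℕ) : ℚ) := by
        push_cast; linear_combination hQ
      exact_mod_cast this
    refine ⟨?_, ?_⟩
    · have h8 : 3 * ((a + 1) * (b + 1) * (a + b)) ≤ 8 * (a * b * (1 + a + b)) := by
        rcases eq_or_lt_of_le (Nat.one_le_iff_ne_zero.2 ha.ne') with rfl | ha'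
        · nlinarith
        · have : 5 ≤ a := by omega
          nlinarith [Nat.mul_le_mul this (Nat.one_le_iff_ne_zero.2 hb.ne')]
      have hpos : 0 < (a + 1) * (b + 1) * (a + b) := by positivity
      refine Nat.le_of_mul_le_mul_right ?_ hpos
      calc 12 * k ^ 3 * ((a + 1) * (b + 1) * (a + b)) = 4 * k ^ 3 * (3 * ((a + 1) * (b + 1) * (a + b))) := by ring
        _ ≤ 4 * k ^ 3 * (8 * (a * b * (1 + a + b))) := Nat.mul_le_mul_left _ h8
        _ = Q * ((a + 1) * (b + 1) * (a + b)) := by rw [hQ']; ring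
    · rintro rfl
      have h48 : Q < 48 := by
        by_contra h
        push Not at h
        have := Nat.mul_le_mul_right ((a + 1) * (b + 1) * (a + b)) h
        nlinarith
      have ha7 : a ≤ 6 := by nlinarith
      have hb7 : b ≤ 6 := by nlinarith
      interval_cases a <;> interval_cases b <;> omega
  · have hcab : a + 1 = b + c := by omega
    push_cast at hQ
    have hb2 : 3 ≤ b := by omega
    have hbq2 : (3 : ℚ) ≤ b := by exact_mod_cast hb2
    obtain ⟨b', rfl⟩ : ∃ b', b = b' + 1 := ⟨b - 1, by omega⟩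
    obtain ⟨c', rfl⟩ : ∃ c', c = c' + 1 := ⟨c - 1, by omega⟩
    push_cast at hQ hbq2 hcq
    have hden : (0 : ℚ) < ((a : ℚ) + 1) * ((b' : ℚ) + 1 + -1) * ((c' : ℚ) + 1 + -1) := by
      have : (0 : ℚ) < (b' : ℚ) + 1 + -1 := by linarith
      have : (0 : ℚ) < (c' : ℚ) + 1 + -1 := by linarith
      positivity
    rw [mul_div_assoc', eq_div_iff hden.ne'] at hQ
    have hQ' : Q * ((a + 1) * b' * c') = 32 * k ^ 3 * (a * (b' + 1) * (c' + 1)) := by
      have : ((Q * ((a + 1) * b' * c') : ℕ) : ℚ) = ((32 * k ^ 3 * (a * (b' + 1) * (c' + 1)) : ℕ) : ℚ) := by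
        push_cast; linear_combination hQ
      exact_mod_cast this
    refine ⟨?_, ?_⟩
    · have h8 : 3 * ((a + 1) * b' * c') ≤ 8 * (a * (b' + 1) * (c' + 1)) := by
        have e1 : 3 * (a + 1) ≤ 8 * a := by omega
        calc 3 * ((a + 1) * b' * c') = (3 * (a + 1)) * b' * c' := by ring
          _ ≤ (8 * a) * (b' + 1) * (c' + 1) := by gcongr <;> omega
          _ = _ := by ring
      have hpos : 0 < (a + 1) * b' * c' := Nat.mul_pos (Nat.mul_pos (by omega) (by omega)) (by omega)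
      refine Nat.le_of_mul_le_mul_right ?_ hpos
      calc 12 * k ^ 3 * ((a + 1) * b' * c') = 4 * k ^ 3 * (3 * ((a + 1) * b' * c')) := by ring
        _ ≤ 4 * k ^ 3 * (8 * (a * (b' + 1) * (c' + 1))) := Nat.mul_le_mul_left _ h8
        _ = Q * ((a + 1) * b' * c') := by rw [hQ']; ring
    · rintro rfl
      have h72 : Q < 72 := by
        by_contra h
        push Not at h
        have h' := Nat.mul_le_mul_right ((a + 1) * b' * c') h
        have e1 : 2 * (b' + 1) ≤ 3 * b' := by omega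
        have e2 : 2 * (c' + 1) ≤ 3 * c' := by omega
        have h'' : 4 * (a * (b' + 1) * (c' + 1)) ≤ 9 * (a * b' * c') :=
          calc 4 * (a * (b' + 1) * (c' + 1)) = a * (2 * (b' + 1)) * (2 * (c' + 1)) := by ring
            _ ≤ a * (3 * b') * (3 * c') := by gcongr
            _ = _ := by ring
        have h3 : 0 < b' * c' := Nat.mul_pos (by omega) (by omega)
        nlinarith
      have ha7 : a ≤ 8 := by nlinarith
      have hb7 : b' ≤ 8 := by omega
      have hc7 : c' ≤ 8 := by omega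
      obtain rfl : a = b' + c' + 1 := by omega
      interval_cases b' <;> interval_cases c' <;> omega

variable {G : Type*} [Group G] [Finite G] {P : Sylow 2 G} {σ τ : G} {O : Subgroup G}
  (S : Setup P σ τ O)

/-- The centraliser of `W(τ)`. -/
def X (O : Subgroup G) (τ : G) : Subgroup G := Subgroup.centralizer (W O τ : Set G)

theorem mem_X {O : Subgroup G} {τ x : G} : x ∈ X O τ ↔ ∀ w ∈ W O τ, Commute x w := by
  rw [X, Subgroup.mem_centralizer_iff]
  exact ⟨fun h w hw => (h w hw).symm, fun h w hw => (h w hw).symm⟩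

include S

theorem Setup.four_mem_X {s : G} (hs : s = 1 ∨ s = σ ^ 2 ∨ s = τ ∨ s = σ ^ 2 * τ) : s ∈ X O τ := by
  refine mem_X.2 fun w hw => ?_
  obtain ⟨hwO, hwτ⟩ := mem_W.1 hw
  rcases hs with rfl | rfl | rfl | rfl
  · exact Commute.one_left _
  · exact (S.le w hwO).symm
  · exact hwτ.symm
  · exact ((S.le w hwO).symm).mul_left hwτ.symm

theorem Setup.O_le_X : O ≤ X O τ := fun _ hx => mem_X.2 fun _ hw => S.comm hx (mem_W.1 hw).1

theorem Setup.W_le_X : W O τ ≤ X O τ := fun _ hx => S.O_le_X (mem_W.1 hx).1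

theorem Setup.sigma_normalizes : σ ∈ Subgroup.normalizer (W O τ : Set G) := by
  refine Subgroup.mem_normalizer_iff.2 fun w => ⟨fun hw => ?_, fun hw => ?_⟩
  · rw [S.inverts (mem_W.1 hw).1]
    exact inv_mem hw
  · have hwO : w ∈ O := by
      have := S.norm σ⁻¹ (S.comm_t (inv_mem S.gen.amem)) _ (mem_W.1 hw).1
      simpa [mul_assoc] using this
    rw [S.inverts hwO] at hw
    exact inv_mem_iff.1 hw

theorem Setup.sigma_not_mem (h1 : W O τ ≠ ⊥) : σ ∉ X O τ := fun h => by
  refine h1 (eq_bot_iff.2 fun w hw => Subgroup.mem_bot.2 ?_)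
  have e := S.inverts (mem_W.1 hw).1
  rw [(mem_X.1 h w hw).eq, mul_inv_cancel_right] at e
  refine odd_pow_two_injective S.odd (mem_W.1 hw).1 ?_
  nth_rewrite 2 [e]
  exact mul_inv_cancel w

/-- `|C_X(t)| = 4 |O|`. -/
theorem Setup.card_X_cent (h1 : W O τ ≠ ⊥) :
    Nat.card (X O τ ⊓ Subgroup.centralizer ({σ ^ 2} : Set G) : Subgroup G) = 4 * Nat.card O := by
  set V : Finset G := {1, σ ^ 2, τ, σ ^ 2 * τ} with hV
  have hVmem : ∀ s, s ∈ V → s = 1 ∨ s = σ ^ 2 ∨ s = τ ∨ s = σ ^ 2 * τ := fun s hs => by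
    simpa [hV] using hs
  have hVP : ∀ s, s ∈ V → s ∈ (P : Subgroup G) := fun s hs => by
    rcases hVmem s hs with rfl | rfl | rfl | rfl
    · exact one_mem _
    · exact pow_mem S.gen.amem 2
    · exact S.gen.bmem
    · exact mul_mem (pow_mem S.gen.amem 2) S.gen.bmem
  have h4 : V.card = 4 := by
    have hne1 : σ ^ 2 ≠ 1 := Dihedral.ne_one S.t_order
    have hne2 : τ ≠ 1 := by simpa using refl_ne_one S.gen 0
    have hne3 : σ ^ 2 ≠ τ := fun e => S.tau_ne e.symm
    have hne4 : σ ^ 2 * τ ≠ 1 := fun e => hne3 ((mul_eq_one_iff_eq_inv.1 e).trans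
      (inv_eq_of_mul_eq_one_right S.gen.bb))
    rw [hV, Finset.card_insert_of_notMem (by simp [hne1.symm, hne2.symm, hne4.symm]),
      Finset.card_insert_of_notMem (by simp [hne3, hne2]), Finset.card_pair (by simp [hne1])]
  rw [mul_comm 4, ← h4, ← Nat.card_eq_finsetCard V, ← Nat.card_prod]
  refine (Nat.card_eq_of_bijective (fun p : O × V => (⟨p.1 * p.2, Subgroup.mem_inf.2
    ⟨mul_mem (S.O_le_X p.1.2) (S.four_mem_X (hVmem _ p.2.2)), Subgroup.mem_centralizer_singleton_iff.2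
      ((S.le _ p.1.2).mul_left (S.comm_t (hVP _ p.2.2))).eq⟩⟩ :
        (X O τ ⊓ Subgroup.centralizer ({σ ^ 2} : Set G) : Subgroup G))) ⟨?_, ?_⟩).symm
  · rintro ⟨a, b⟩ ⟨a', b'⟩ he
    have he' : (a : G) * b = a' * b' := congrArg Subtype.val he
    have hmem : (a' : G)⁻¹ * a = b' * (b : G)⁻¹ := by
      calc (a' : G)⁻¹ * a = (a' : G)⁻¹ * (a * b) * (b : G)⁻¹ := by group
        _ = b' * (b : G)⁻¹ := by rw [he']; group
    have h := S.disjoint (mul_mem (inv_mem a'.2) a.2) (hmem ▸ mul_mem (hVP _ b'.2) (inv_mem (hVP _ b.2)))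
    have ha : (a : G) = a' := (inv_mul_eq_one.1 h).symm
    exact Prod.ext (Subtype.ext ha) (Subtype.ext (mul_left_cancel (ha ▸ he')))
  · rintro ⟨x, hx⟩
    obtain ⟨hxX, hxt⟩ := Subgroup.mem_inf.1 hx
    obtain ⟨o, ho, s, hs, rfl⟩ := S.decomp x (Subgroup.mem_centralizer_singleton_iff.1 hxt)
    have hsX : s ∈ X O τ := (Subgroup.mul_mem_cancel_left _ (S.O_le_X ho)).1 hxX
    refine ⟨(⟨o, ho⟩, ⟨s, ?_⟩), rfl⟩
    have hrot : ∀ i : ℤ, σ ^ i ∈ X O τ → σ ^ i = 1 ∨ σ ^ i = σ ^ 2 := by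
      intro i hi
      rcases Int.even_or_odd i with ⟨r, rfl⟩ | ⟨r, rfl⟩
      · have h2 : σ ^ (r + r) * σ ^ (r + r) = 1 := by
          rw [← zpow_add, show r + r + (r + r) = (4 : ℕ) * r by push_cast; ring, zpow_mul, zpow_natCast,
            S.rot_pow_four, one_zpow]
        rcases zpow_involution S.gen h2 with e | e
        · exact Or.inl e
        · exact Or.inr (by rw [e, ← S.t_eq])
      · exfalso
        refine S.sigma_not_mem h1 ?_
        have h2 : σ ^ (2 * r) ∈ X O τ := by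
          rw [zpow_mul, zpow_ofNat]
          exact zpow_mem (S.four_mem_X (Or.inr (Or.inl rfl))) r
        rw [zpow_add, zpow_one] at hi
        exact (Subgroup.mul_mem_cancel_left _ h2).1 hi
    rcases S.gen.cases s hs with ⟨i, rfl⟩ | ⟨i, rfl⟩
    · rcases hrot i hsX with e | e <;> simp [hV, e]
    · rcases hrot i ((Subgroup.mul_mem_cancel_right _ (S.four_mem_X (Or.inr (Or.inr (Or.inl rfl))))).1 hsX)
        with e | e <;> simp [hV, e]

/-- Eight does not divide `|X|`. -/
theorem Setup.eight_not_dvd (h1 : W O τ ≠ ⊥) : ¬ 8 ∣ Nat.card (X O τ) := by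
  have : Fact (Nat.Prime 2) := ⟨Nat.prime_two⟩
  intro h8
  obtain ⟨n, hn1, hn2⟩ := S.exists_cycle
  have hnX : n ∈ X O τ := mem_X.2 fun w hw => mul_inv_eq_iff_eq_mul.1 (S.cycle_centralizes hn1 hn2 hw)
  -- a 2-subgroup containing the four-group
  let T : Subgroup G := Subgroup.closure {σ ^ 2, τ}
  have hTP : T ≤ (P : Subgroup G) := (Subgroup.closure_le _).2 (by
    rintro x (rfl | rfl)
    exacts [pow_mem S.gen.amem 2, S.gen.bmem])
  have hTX : T ≤ X O τ := (Subgroup.closure_le _).2 (by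
    rintro x (rfl | rfl)
    exacts [S.four_mem_X (Or.inr (Or.inl rfl)), S.four_mem_X (Or.inr (Or.inr (Or.inl rfl)))])
  obtain ⟨R, hR⟩ := ((P.2.to_le hTP).comap_subtype (K := X O τ)).exists_le_sylow
  have h8R : 8 ∣ Nat.card R :=
    by
      rw [R.card_eq_multiplicity]
      exact pow_dvd_pow 2 ((Nat.prime_two.pow_dvd_iff_le_factorization Nat.card_pos.ne').1
        (show 2 ^ 3 ∣ Nat.card (X O τ) by norm_num; exact h8))
  set R' : Subgroup G := (R : Subgroup (X O τ)).map (X O τ).subtype with hR'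
  have hcardR : Nat.card R' = Nat.card R := Subgroup.card_subtype _ _
  obtain ⟨Q, hQ⟩ := (R.2.map (X O τ).subtype).exists_le_sylow
  obtain ⟨g, hg⟩ := MulAction.exists_smul_eq G P Q
  have hQ8 : Nat.card Q = 8 := by
    rw [Sylow.card_eq_multiplicity, ← Sylow.card_eq_multiplicity P, card_sylow S.gen]; norm_num
  have hRQ : R' = (Q : Subgroup G) := Subgroup.eq_of_le_of_card_ge hQ (by
    rw [hQ8, hcardR]; exact Nat.le_of_dvd Nat.card_pos h8R)
  have hQmem : ∀ x : G, x ∈ (Q : Subgroup G) → g⁻¹ * x * g ∈ (P : Subgroup G) := by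
    intro x hx
    rw [← hg] at hx
    obtain ⟨y, hy, rfl⟩ := hx
    change g⁻¹ * (g * y * g⁻¹) * g ∈ (P : Subgroup G)
    rw [show g⁻¹ * (g * y * g⁻¹) * g = y by group]
    exact hy
  have hQmem' : ∀ y : G, y ∈ (P : Subgroup G) → g * y * g⁻¹ ∈ (Q : Subgroup G) := by
    intro y hy
    rw [← hg]
    exact ⟨y, hy, rfl⟩
  set z := g * σ ^ 2 * g⁻¹ with hz
  have hzc : ∀ x ∈ (Q : Subgroup G), Commute x z := by
    intro x hx
    have h := (S.comm_t (hQmem x hx)).map (MulAut.conj g).toMonoidHom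
    simpa [hz, mul_assoc] using h
  have hTQ : ∀ x ∈ T, x ∈ (Q : Subgroup G) := fun x hx => by
    rw [← hRQ]; exact ⟨⟨x, hTX hx⟩, hR (show (⟨x, hTX hx⟩ : X O τ) ∈ T.comap (X O τ).subtype from hx), rfl⟩
  obtain ⟨o, ho, s, hs, hzs⟩ := S.decomp_two
    (hzc _ (hTQ _ (Subgroup.subset_closure (Or.inl rfl)))).symm
    (hzc _ (hTQ _ (Subgroup.subset_closure (Or.inr rfl)))).symm
  have hsP : s ∈ (P : Subgroup G) := by
    rcases hs with rfl | rfl | rfl | rfl
    · exact one_mem _
    · exact pow_mem S.gen.amem 2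
    · exact S.gen.bmem
    · exact mul_mem (pow_mem S.gen.amem 2) S.gen.bmem
  have hzQ : z ∈ (Q : Subgroup G) := hQmem' _ (pow_mem S.gen.amem 2)
  have hsQ : s ∈ (Q : Subgroup G) := by
    rcases hs with rfl | rfl | rfl | rfl
    · exact one_mem _
    · exact hTQ _ (Subgroup.subset_closure (Or.inl rfl))
    · exact hTQ _ (Subgroup.subset_closure (Or.inr rfl))
    · exact mul_mem (hTQ _ (Subgroup.subset_closure (Or.inl rfl))) (hTQ _ (Subgroup.subset_closure (Or.inr rfl)))
  have ho1 : o = 1 := by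
    have hoQ : o ∈ (Q : Subgroup G) := by
      rw [show o = z * s⁻¹ by rw [hzs, mul_inv_cancel_right]]
      exact mul_mem hzQ (inv_mem hsQ)
    obtain ⟨e, he⟩ := IsPGroup.iff_orderOf.1 Q.2 ⟨o, hoQ⟩
    rw [Subgroup.orderOf_mk] at he
    have h3 : Odd (orderOf o) := by
      refine S.odd.of_dvd_nat ?_
      rw [← Nat.card_zpowers]
      exact Subgroup.card_dvd_of_le (Subgroup.zpowers_le.2 (mem_W.1 ho).1)
    rcases Nat.eq_zero_or_pos e with h | h
    · exact orderOf_eq_one_iff.1 (by rw [he, h, pow_zero])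
    · rw [he, Nat.odd_pow_iff h.ne'] at h3
      norm_num at h3
  rw [ho1, one_mul] at hzs
  have hz1 : z ≠ 1 := fun e => Dihedral.ne_one S.t_order (conj_eq_one_iff.1 e)
  -- move `z` to `t` inside `X`
  obtain ⟨c, hcX, hcz⟩ : ∃ c ∈ X O τ, c * z * c⁻¹ = σ ^ 2 := by
    rw [hzs] at hz1 ⊢
    rcases hs with rfl | rfl | e | rfl
    · exact absurd rfl hz1
    · exact ⟨1, one_mem _, by group⟩
    · rw [e]
      refine ⟨n * n, mul_mem hnX hnX, ?_⟩
      rw [show n * n * τ * (n * n)⁻¹ = n * (n * τ * n⁻¹) * n⁻¹ by group, hn2,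
        show n * (σ ^ 2 * τ) * n⁻¹ = (n * σ ^ 2 * n⁻¹) * (n * τ * n⁻¹) by group, hn1, hn2,
        (S.comm_t S.gen.bmem).symm.eq, ← mul_assoc, S.gen.bb, one_mul]
    · refine ⟨n, hnX, ?_⟩
      rw [show n * (σ ^ 2 * τ) * n⁻¹ = (n * σ ^ 2 * n⁻¹) * (n * τ * n⁻¹) by group, hn1, hn2,
        (S.comm_t S.gen.bmem).symm.eq, ← mul_assoc, S.gen.bb, one_mul]
  have h8' : 8 ∣ Nat.card (X O τ ⊓ Subgroup.centralizer ({σ ^ 2} : Set G) : Subgroup G) := by
    have hle : (Q : Subgroup G).map (MulAut.conj c).toMonoidHom ≤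
        X O τ ⊓ Subgroup.centralizer ({σ ^ 2} : Set G) := by
      rintro _ ⟨x, hx, rfl⟩
      refine Subgroup.mem_inf.2 ⟨?_, Subgroup.mem_centralizer_singleton_iff.2 ?_⟩
      · have hxX : x ∈ X O τ := by
          rw [← hRQ] at hx
          obtain ⟨y, -, rfl⟩ := hx
          exact y.2
        exact mul_mem (mul_mem hcX hxX) (inv_mem hcX)
      · have h := (hzc x hx).map (MulAut.conj c).toMonoidHom
        simpa [hcz] using h.eq
    refine dvd_trans ?_ (Subgroup.card_dvd_of_le hle)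
    rw [Subgroup.card_map_of_injective (MulAut.conj c).injective, hQ8]
  rw [S.card_X_cent h1] at h8'
  obtain ⟨r, hr⟩ := S.odd
  omega

omit S in
theorem card_comap_mk {H : Type*} [Group H] [Finite H] (N : Subgroup H) [N.Normal] (K : Subgroup (H ⧸ N)) :
    Nat.card (K.comap (QuotientGroup.mk' N)) = Nat.card K * Nat.card N := by
  have h1 := (K.comap (QuotientGroup.mk' N)).index_mul_card
  rw [Subgroup.index_comap_of_surjective _ (QuotientGroup.mk'_surjective N),
    Subgroup.card_eq_card_quotient_mul_card_subgroup N, ← K.index_mul_card, mul_assoc] at h1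
  exact Nat.eq_of_mul_eq_mul_left (Nat.pos_of_ne_zero Subgroup.index_ne_zero_of_finite) h1

/-- The order of `X / W`. -/
theorem Setup.quotient_bound (h1 : W O τ ≠ ⊥) :
    ∃ q : ℕ, Nat.card (X O τ) = Nat.card (W O τ) * q ∧ 12 * Nat.card (W O (σ * τ)) ^ 3 ≤ q ∧
      (Nat.card (W O (σ * τ)) = 1 → q = 12 ∨ q = 60) := by
  have : Fact (Nat.Prime 2) := ⟨Nat.prime_two⟩
  obtain ⟨n, hn1, hn2⟩ := S.exists_cycle
  have hnX : n ∈ X O τ := mem_X.2 fun w hw => mul_inv_eq_iff_eq_mul.1 (S.cycle_centralizes hn1 hn2 hw)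
  set Y := X O τ with hY
  let W' : Subgroup Y := (W O τ).subgroupOf Y
  have hW'n : W'.Normal := ⟨fun w hw x => by
    have hc := mem_X.1 x.2 (w : G) hw
    show ((x * w * x⁻¹ : Y) : G) ∈ W O τ
    push_cast
    rw [hc.eq, mul_inv_cancel_right]
    exact hw⟩
  have hW'card : Nat.card W' = Nat.card (W O τ) :=
    Nat.card_congr (Subgroup.subgroupOfEquivOfLe S.W_le_X).toEquiv
  have hmul : Nat.card Y = Nat.card (W O τ) * Nat.card (Y ⧸ W') := by
    rw [Subgroup.card_eq_card_quotient_mul_card_subgroup W', hW'card, mul_comm]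
  have hWodd : Odd (Nat.card (W O τ)) := S.odd.of_dvd_nat (Subgroup.card_dvd_of_le inf_le_left)
  let π : Y →* Y ⧸ W' := QuotientGroup.mk' W'
  have htY : σ ^ 2 ∈ Y := S.four_mem_X (Or.inr (Or.inl rfl))
  have hτY : τ ∈ Y := S.four_mem_X (Or.inr (Or.inr (Or.inl rfl)))
  set tY : Y := ⟨σ ^ 2, htY⟩ with htYd
  set τY : Y := ⟨τ, hτY⟩ with hτYd
  have hker : ∀ {x : Y}, π x = 1 ↔ (x : G) ∈ W O τ := fun {x} => QuotientGroup.eq_one_iff x
  -- an element commuting modulo `W` with an involution of `C(W)` commutes with it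
  have hlift : ∀ {x u : Y}, u * u = 1 → π x * π u = π u * π x → x * u = u * x := by
    intro x u hu he
    have hw : ((u⁻¹ * (x * u * x⁻¹) : Y) : G) ∈ W O τ := by
      rw [← hker, map_mul, map_mul, map_mul, map_inv, map_inv, he]; group
    set w : Y := u⁻¹ * (x * u * x⁻¹) with hwd
    have hxu : x * u * x⁻¹ = u * w := by rw [hwd]; group
    have hcw : u * w = w * u := Subtype.ext (mem_X.1 u.2 (w : G) hw).eq
    have h2 : u * w * (u * w) = 1 := by
      rw [← hxu, show x * u * x⁻¹ * (x * u * x⁻¹) = x * (u * u) * x⁻¹ by group, hu]; group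
    have hw2 : w * w = 1 := by
      calc w * w = u * u * (w * w) := by rw [hu, one_mul]
        _ = u * (u * w) * w := by group
        _ = u * (w * u) * w := by rw [hcw]
        _ = 1 := by rw [← h2]; group
    have : w = 1 := Subtype.ext (odd_pow_two_injective hWodd hw (congrArg Subtype.val hw2))
    rw [this, mul_one] at hxu
    exact mul_inv_eq_iff_eq_mul.1 hxu
  have htt : tY * tY = 1 := Subtype.ext S.t_sq
  have hττ : τY * τY = 1 := Subtype.ext S.gen.bb
  have htne : ∀ {u : Y}, u * u = 1 → u ≠ 1 → orderOf (π u) = 2 := fun {u} hu hu1 => by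
    refine orderOf_eq_prime (by rw [pow_two, ← map_mul, hu, map_one]) fun e => hu1 (Subtype.ext ?_)
    exact odd_pow_two_injective hWodd (hker.1 e) (congrArg Subtype.val hu)
  have ht1 : tY ≠ 1 := fun e => Dihedral.ne_one S.t_order (congrArg Subtype.val e)
  -- the centraliser of the image of `t`
  have hCt : Nat.card (Subgroup.centralizer ({π tY} : Set (Y ⧸ W'))) * Nat.card (W O τ) = 4 * Nat.card O := by
    rw [← hW'card, ← card_comap_mk, ← S.card_X_cent h1]
    refine Nat.card_congr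
      { toFun := fun x => ⟨(x.1 : G), Subgroup.mem_inf.2 ⟨x.1.2, ?_⟩⟩
        invFun := fun x => ⟨⟨x.1, (Subgroup.mem_inf.1 x.2).1⟩, ?_⟩
        left_inv := fun x => rfl
        right_inv := fun x => rfl }
    · have h := hlift htt (Subgroup.mem_centralizer_singleton_iff.1 (Subgroup.mem_comap.1 x.2))
      exact Subgroup.mem_centralizer_singleton_iff.2 (congrArg Subtype.val h)
    · have h := Subgroup.mem_centralizer_singleton_iff.1 (Subgroup.mem_inf.1 x.2).2
      refine Subgroup.mem_comap.2 (Subgroup.mem_centralizer_singleton_iff.2 ?_)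
      show π _ * π tY = π tY * π _
      rw [← map_mul, ← map_mul]
      exact congrArg π (Subtype.ext h)
  have hCt' : Nat.card (Subgroup.centralizer ({π tY} : Set (Y ⧸ W'))) = 4 * Nat.card (W O (σ * τ)) := by
    rw [S.card_O] at hCt
    apply Nat.eq_of_mul_eq_mul_right (Nat.card_pos : 0 < Nat.card (W O τ))
    rw [hCt]; ring
  -- the four-group
  let V : Subgroup (Y ⧸ W') := Subgroup.closure {π tY, π τY}
  have hcomm : π tY * π τY = π τY * π tY := by
    rw [← map_mul, ← map_mul]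
    exact congrArg π (Subtype.ext (S.comm_t S.gen.bmem).eq.symm)
  let VS : Finset (Y ⧸ W') := {1, π tY, π τY, π tY * π τY}
  have hVS : ∀ x : Y ⧸ W', x ∈ V ↔ x ∈ VS := by
    have e1 : π tY * π tY = 1 := by rw [← map_mul, htt, map_one]
    have e2 : π τY * π τY = 1 := by rw [← map_mul, hττ, map_one]
    intro x
    constructor
    · intro hx
      induction hx using Subgroup.closure_induction with
      | mem y hy => rcases hy with rfl | rfl <;> simp [VS]
      | one => simp [VS]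
      | mul y z _ _ hy hz =>
        simp only [VS, Finset.mem_insert, Finset.mem_singleton] at hy hz ⊢
        have k1 : π tY * (π tY * π τY) = π τY := by rw [← mul_assoc, e1, one_mul]
        have k2 : π τY * (π tY * π τY) = π tY := by rw [hcomm, ← mul_assoc, e2, one_mul]
        have k3 : π tY * π τY * π tY = π τY := by rw [hcomm, mul_assoc, e1, mul_one]
        have k4 : π tY * π τY * π τY = π tY := by rw [mul_assoc, e2, mul_one]
        have k5 : π tY * π τY * (π tY * π τY) = 1 := by rw [mul_assoc, k2, e1]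
        rcases hy with rfl | rfl | rfl | rfl <;> rcases hz with rfl | rfl | rfl | rfl <;>
          simp only [one_mul, mul_one, e1, e2, k1, k2, k3, k4, k5, ← hcomm, true_or, or_true]
      | inv y _ hy =>
        simp only [VS, Finset.mem_insert, Finset.mem_singleton] at hy ⊢
        rcases hy with rfl | rfl | rfl | rfl <;>
          simp only [inv_one, mul_inv_rev, inv_eq_of_mul_eq_one_right e1, inv_eq_of_mul_eq_one_right e2,
            ← hcomm, true_or, or_true]
    · intro hx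
      have m1 : π tY ∈ V := Subgroup.subset_closure (Or.inl rfl)
      have m2 : π τY ∈ V := Subgroup.subset_closure (Or.inr rfl)
      simp only [VS, Finset.mem_insert, Finset.mem_singleton] at hx
      rcases hx with rfl | rfl | rfl | rfl
      exacts [one_mem V, m1, m2, mul_mem m1 m2]
  have hτ1 : τY ≠ 1 := fun e => by
    have := congrArg Subtype.val e
    exact (by simpa using refl_ne_one S.gen 0 : τ ≠ 1) this
  have htτ : tY * τY ≠ 1 := fun e => by
    have h' : σ ^ 2 * τ = 1 := congrArg Subtype.val e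
    exact S.tau_ne ((eq_inv_of_mul_eq_one_right h').trans (inv_eq_of_mul_eq_one_right S.t_sq))
  have htτ2 : tY * τY * (tY * τY) = 1 := by
    have h : tY * τY = τY * tY := Subtype.ext (S.comm_t S.gen.bmem).eq.symm
    calc tY * τY * (tY * τY) = tY * τY * (τY * tY) := by rw [← h]
      _ = 1 := by rw [mul_assoc, ← mul_assoc τY, hττ, one_mul, htt]
  have o1 := htne htt ht1
  have o2 := htne hττ hτ1
  have o3 := htne htτ2 htτ
  rw [map_mul] at o3
  have hne : ∀ {x : Y ⧸ W'}, orderOf x = 2 → x ≠ 1 := fun h => Dihedral.ne_one h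
  have hVcard : Nat.card V = 4 := by
    rw [Nat.card_congr (Equiv.subtypeEquivRight hVS), Nat.card_eq_finsetCard,
      Finset.card_insert_of_notMem (by simp [(hne o1).symm, (hne o2).symm, (hne o3).symm]),
      Finset.card_insert_of_notMem (by
        simp only [Finset.mem_insert, Finset.mem_singleton, not_or]
        refine ⟨fun e => hne o3 ?_, fun e => hne o2 (mul_eq_left.1 e.symm).symm.symm⟩
        rw [← e, ← map_mul, htt, map_one]),
      Finset.card_pair (fun e => hne o1 (mul_eq_right.1 e.symm))]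
  have hVexp : ∀ v ∈ V, v ^ 2 = 1 := by
    intro v hv
    have := (hVS v).1 hv
    simp only [VS, Finset.mem_insert, Finset.mem_singleton] at this
    rcases this with rfl | rfl | rfl | rfl
    · exact one_pow 2
    · rw [← o1]; exact pow_orderOf_eq_one _
    · rw [← o2]; exact pow_orderOf_eq_one _
    · rw [← o3]; exact pow_orderOf_eq_one _
  have h4dvd : 4 ∣ Nat.card (Y ⧸ W') := hVcard ▸ Subgroup.card_subgroup_dvd_card V
  have h8 : ¬ 8 ∣ Nat.card (Y ⧸ W') := fun h => S.eight_not_dvd h1 (hmul ▸ h.mul_left _)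
  have hVp : IsPGroup 2 V := IsPGroup.of_card (n := 2) (by rw [hVcard]; norm_num)
  obtain ⟨PQ, hPQ⟩ := hVp.exists_le_sylow
  have hPQV : (PQ : Subgroup (Y ⧸ W')) = V := by
    obtain ⟨r, hr⟩ := IsPGroup.iff_card.1 PQ.2
    refine (Subgroup.eq_of_le_of_card_ge hPQ ?_).symm
    rw [hVcard, hr]
    by_contra h
    push Not at h
    have h3 : 3 ≤ r := by
      by_contra h3
      push Not at h3
      interval_cases r <;> omega
    exact h8 ((pow_dvd_pow 2 h3).trans (hr ▸ Subgroup.card_subgroup_dvd_card _))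
  have hklein : IsKleinFour (PQ : Subgroup (Y ⧸ W')) := by
    rw [hPQV]
    refine ⟨hVcard, ?_⟩
    have hdvd : Monoid.exponent V ∣ 2 :=
      Monoid.exponent_dvd_of_forall_pow_eq_one fun v => Subtype.ext (hVexp v v.2)
    rcases (Nat.dvd_prime Nat.prime_two).1 hdvd with e | e
    · have := Monoid.exp_eq_one_iff.1 e
      have h1' : Nat.card V = 1 := Nat.card_of_subsingleton 1
      omega
    · exact e
  -- one class of involutions
  have hcyc1 : IsConj (π tY) (π τY) := π.map_isConj (isConj_iff.2 ⟨⟨n, hnX⟩, Subtype.ext hn1⟩ : IsConj tY τY)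
  have hcyc2 : IsConj (π τY) (π (tY * τY)) :=
    π.map_isConj (isConj_iff.2 ⟨⟨n, hnX⟩, Subtype.ext hn2⟩ : IsConj τY (tY * τY))
  have hall : ∀ x : Y ⧸ W', orderOf x = 2 → IsConj (π tY) x := by
    intro x hx
    obtain ⟨g, hg⟩ := Basic.exists_conj_mem PQ hx
    refine IsConj.trans ?_ (isConj_iff.2 ⟨g⁻¹, by group⟩ : IsConj (g * x * g⁻¹) x)
    replace hg : g * x * g⁻¹ ∈ V := hPQV ▸ hg
    have ho : orderOf (g * x * g⁻¹) = 2 := (Dihedral.orderOf_conj g x).trans hx
    have hm := (hVS _).1 hg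
    simp only [VS, Finset.mem_insert, Finset.mem_singleton] at hm
    rcases hm with e | e | e | e <;> rw [e] at ho ⊢
    · exact absurd rfl (hne ho)
    · exact hcyc1
    · rw [← map_mul]; exact hcyc1.trans hcyc2
  have hone : ∀ a b : Y ⧸ W', orderOf a = 2 → orderOf b = 2 → IsConj a b := fun a b ha hb =>
    (hall a ha).symm.trans (hall b hb)
  -- the centraliser of the four-group
  have hCV : Nat.card (Subgroup.centralizer ((PQ : Subgroup (Y ⧸ W')) : Set (Y ⧸ W'))) = 4 := by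
    have hc2 : (Subgroup.centralizer ((PQ : Subgroup (Y ⧸ W')) : Set (Y ⧸ W'))).comap π
        = (Subgroup.centralizer ({σ ^ 2, τ} : Set G)).subgroupOf Y := by
      ext x
      rw [Subgroup.mem_comap, Subgroup.mem_subgroupOf, hPQV, Subgroup.centralizer_closure,
        Subgroup.mem_centralizer_iff, Subgroup.mem_centralizer_iff]
      constructor
      · intro h u hu
        rcases hu with rfl | rfl
        · exact (congrArg Subtype.val (hlift htt (h _ (Or.inl rfl)).symm)).symm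
        · exact (congrArg Subtype.val (hlift hττ (h _ (Or.inr rfl)).symm)).symm
      · intro h u hu
        rcases hu with rfl | rfl
        · rw [← map_mul, ← map_mul]; exact congrArg π (Subtype.ext (h _ (Or.inl rfl)))
        · rw [← map_mul, ← map_mul]; exact congrArg π (Subtype.ext (h _ (Or.inr rfl)))
    have hle : Subgroup.centralizer ({σ ^ 2, τ} : Set G) ≤ Y := by
      intro x hx
      rw [Subgroup.mem_centralizer_iff] at hx
      refine mem_X.2 fun w hw => mul_inv_eq_iff_eq_mul.1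
        (S.centralizes_W (hx _ (Or.inl rfl)).symm (hx _ (Or.inr rfl)).symm hw)
    have h := card_comap_mk W' (Subgroup.centralizer ((PQ : Subgroup (Y ⧸ W')) : Set (Y ⧸ W')))
    rw [hc2, Nat.card_congr (Subgroup.subgroupOfEquivOfLe hle).toEquiv, S.card_cent_two, hW'card] at h
    exact (Nat.eq_of_mul_eq_mul_right Nat.card_pos h).symm
  obtain ⟨g₀, hg₀⟩ := h4dvd
  have hg₀o : Odd g₀ := by
    rw [Nat.odd_iff]
    by_contra h
    exact h8 ⟨g₀ / 2, by omega⟩
  have hnc : ¬ ∃ N : Subgroup (Y ⧸ W'), N.Normal ∧ Nat.card N = g₀ := by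
    rintro ⟨N, hN, hNc⟩
    have := hN
    have hidx : N.index = 4 := by
      have h := N.index_mul_card
      rw [hNc, hg₀] at h
      exact Nat.eq_of_mul_eq_mul_right hg₀o.pos h
    have hcommQ : ∀ a b : (Y ⧸ W') ⧸ N, a * b = b * a := by
      have hc : Nat.card ((Y ⧸ W') ⧸ N) = 2 ^ 2 := hidx.trans (by norm_num)
      exact fun a b => (IsPGroup.isMulCommutative_of_card_eq_prime_sq hc).is_comm.comm a b
    obtain ⟨c, hc⟩ := isConj_iff.1 hcyc1
    have hm : π tY * π τY ∈ N := by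
      rw [← QuotientGroup.eq_one_iff, QuotientGroup.mk_mul, ← hc]
      rw [QuotientGroup.mk_mul _ (c * π tY) c⁻¹, QuotientGroup.mk_mul _ c (π tY), QuotientGroup.mk_inv,
        hcommQ (c : (Y ⧸ W') ⧸ N) _, mul_inv_cancel_right, ← QuotientGroup.mk_mul, ← map_mul, htt, map_one,
        QuotientGroup.mk_one]
    have hd : 2 ∣ g₀ := by
      rw [← hNc, ← o3, ← Subgroup.orderOf_mk (π tY * π τY) hm]
      exact orderOf_dvd_natCard _
    rw [Nat.odd_iff] at hg₀o
    omega
  -- the degrees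
  haveI := Fintype.ofFinite (Y ⧸ W')
  obtain ⟨M, hM⟩ := DegreeTools.TISum.exists_pmodular (p := 2) Nat.prime_two
  obtain ⟨ζ₂, ζ₃, ζ₄, ε, hε, n2, n3, h23, h24, h34, hB, hval, c2, c3, c4, hrel⟩ :=
    Cfsg.Agent.S0948.result M hM PQ hklein hone
  have n4 : (ζ₄ : Y ⧸ W' → ℂ) ≠ fun _ => 1 := fun e => by
    have h := (hval _ o1).2.2
    rw [e] at h
    norm_num at h
  have htPQ : π tY ∈ (PQ : Subgroup (Y ⧸ W')) := by rw [hPQV]; exact Subgroup.subset_closure (Or.inl rfl)
  have hform := Cfsg.Agent.S4479.result M hM g₀ hg₀o hg₀ hnc PQ (π tY) htPQ o1 ζ₂ ζ₃ ζ₄ 1 ε (-1) hB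
    ⟨n2, n3, n4, h23, h24, h34⟩ ⟨Or.inl rfl, hε, Or.inr rfl⟩
    ⟨by simpa using (hval _ o1).1, (hval _ o1).2.1, by simpa using (hval _ o1).2.2⟩
  rw [hCt', hCV] at hform
  have hr := hrel 1 (by simp)
  rw [Blocks.irr_one_eq, Blocks.irr_one_eq, Blocks.irr_one_eq] at hr
  have hsum : 1 + (charDegree (ζ₂ : Y ⧸ W' → ℂ) : ℤ) + ε * charDegree (ζ₃ : Y ⧸ W' → ℂ)
      - charDegree (ζ₄ : Y ⧸ W' → ℂ) = 0 := by exact_mod_cast hr
  have hsq : 1 + charDegree (ζ₂ : Y ⧸ W' → ℂ) ^ 2 + charDegree (ζ₃ : Y ⧸ W' → ℂ) ^ 2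
      + charDegree (ζ₄ : Y ⧸ W' → ℂ) ^ 2 ≤ Nat.card (Y ⧸ W') := by
    have h := Char.sum_sq_apply_one (G := Y ⧸ W')
    simp only [Blocks.irr_one_eq] at h
    have h' : ∑ ψ : IrrCharacter (Y ⧸ W'), charDegree (ψ : Y ⧸ W' → ℂ) ^ 2 = Nat.card (Y ⧸ W') := by
      exact_mod_cast h
    rw [← h']
    have hne0 : ∀ {χ : IrrCharacter (Y ⧸ W')}, (χ : Y ⧸ W' → ℂ) ≠ (fun _ => 1) → Blocks.trivChar _ ≠ χ :=
      fun {χ} hχ e => hχ (by rw [← e]; rfl)
    refine le_trans (le_of_eq ?_) (Finset.sum_le_sum_of_subset (Finset.subset_univ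
      ({Blocks.trivChar (Y ⧸ W'), ζ₂, ζ₃, ζ₄} : Finset (IrrCharacter (Y ⧸ W')))))
    rw [Finset.sum_insert (by simp [hne0 n2, hne0 n3, hne0 n4]), Finset.sum_insert (by simp [h23, h24]),
      Finset.sum_pair h34]
    have : charDegree ((Blocks.trivChar (Y ⧸ W') : IrrCharacter (Y ⧸ W')) : Y ⧸ W' → ℂ) = 1 := by
      simp [charDegree, Blocks.trivChar]
    rw [this]; ring
  have hnum := klein_numbers (k := Nat.card (W O (σ * τ))) _ _ _ ε hε (Blocks.charDegree_pos ζ₂)
    (Blocks.charDegree_pos ζ₃) (Blocks.charDegree_pos ζ₄) c2 c3 c4 hsum hsq (by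
      rw [hform]; push_cast; ring)
  exact ⟨_, hmul, hnum.1, hnum.2⟩

end CfsgLib.SelfCentFour
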