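import Cfsg.Agent.Lib.SelfCentFour.Four

/-!
# Self-centralising elements of order four: the local structure at `W(τ)` in the case `|W| = 3`

`C(W) = W × V` extended by an element of order three permuting the involutions of `V`.
-/

set_option autoImplicit false
set_option linter.unusedSectionVars false

namespace CfsgLib.SelfCentFour

open CfsgLib.Involution CfsgLib.Involution.DihedralSylow

section four

variable {G : Type*} [Group G]

/-- The four-group on two commuting involutions. -/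
def fourGroup (x y : G) (hx : x * x = 1) (hy : y * y = 1) (hxy : x * y = y * x) : Subgroup G where
  carrier := {1, x, y, x * y}
  one_mem' := by simp
  mul_mem' := by
    intro a b ha hb
    simp only [Set.mem_insert_iff, Set.mem_singleton_iff] at ha hb ⊢
    have k1 : x * (x * y) = y := by rw [← mul_assoc, hx, one_mul]
    have k2 : y * (x * y) = x := by rw [hxy, ← mul_assoc, hy, one_mul]
    have k3 : x * y * x = y := by rw [hxy, mul_assoc, hx, mul_one]
    have k4 : x * y * y = x := by rw [mul_assoc, hy, mul_one]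
    have k5 : x * y * (x * y) = 1 := by rw [mul_assoc, k2, hx]
    rcases ha with rfl | rfl | rfl | rfl <;> rcases hb with rfl | rfl | rfl | rfl <;>
      simp only [one_mul, mul_one, hx, hy, k1, k2, k3, k4, k5, ← hxy, true_or, or_true]
  inv_mem' := by
    intro a ha
    simp only [Set.mem_insert_iff, Set.mem_singleton_iff] at ha ⊢
    rcases ha with rfl | rfl | rfl | rfl <;>
      simp only [inv_one, mul_inv_rev, inv_eq_of_mul_eq_one_right hx, inv_eq_of_mul_eq_one_right hy,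
        ← hxy, true_or, or_true]

theorem mem_fourGroup {x y a : G} {hx : x * x = 1} {hy : y * y = 1} {hxy : x * y = y * x} :
    a ∈ fourGroup x y hx hy hxy ↔ a = 1 ∨ a = x ∨ a = y ∨ a = x * y := Iff.rfl

/-- An element of order dividing two and three. -/
theorem eq_one_of_sq_cube {x : G} (h2 : x * x = 1) (h3 : x ^ 3 = 1) : x = 1 := by
  rw [pow_succ, pow_two, h2, one_mul] at h3
  exact h3

end four

variable {G : Type*} [Group G] [Finite G]

/-- The properties of the four-group attached to an element `a` of order three. -/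
structure Loc (a : G) (V : Subgroup G) : Prop where
  card : Nat.card V = 4
  sq : ∀ v ∈ V, v * v = 1
  le : ∀ v ∈ V, Commute v a
  inv_mem : ∀ x : G, x * x = 1 → Commute x a → x ∈ V
  cent : ∀ x : G, (∀ v ∈ V, Commute x v) → Commute x a
  three : ∀ v ∈ V, v ≠ 1 → ∀ x : G, Commute x v → x ^ 3 = 1 → x ∈ Subgroup.zpowers a
  six : ∀ v ∈ V, v ≠ 1 → ∀ x : G, Commute x v → Commute x a → x ^ 3 ∈ V

section loc

variable {a : G} {V : Subgroup G} (L : Loc a V)
include L

theorem Loc.conj (z : G) : Loc (z * a * z⁻¹) (V.map (MulAut.conj z).toMonoidHom) := by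
  have key : ∀ x : G, ∀ {y : G}, Commute x (z * y * z⁻¹) ↔ Commute (z⁻¹ * x * z) y := by
    intro x y
    constructor
    · intro h
      have h' := h.map (MulAut.conj z⁻¹).toMonoidHom
      simpa [mul_assoc] using h'
    · intro h
      have h' := h.map (MulAut.conj z).toMonoidHom
      simpa [mul_assoc] using h'
  have hmem : ∀ {x : G}, z⁻¹ * x * z ∈ V → x ∈ V.map (MulAut.conj z).toMonoidHom :=
    fun {x} h => ⟨_, h, by simp [mul_assoc]⟩
  refine ⟨?_, ?_, ?_, ?_, ?_, ?_, ?_⟩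
  · rw [Subgroup.card_map_of_injective (MulAut.conj z).injective, L.card]
  · rintro _ ⟨v, hv, rfl⟩
    rw [← map_mul, L.sq v hv, map_one]
  · rintro _ ⟨v, hv, rfl⟩
    exact (L.le v hv).map (MulAut.conj z).toMonoidHom
  · intro x h2 hc
    refine hmem (L.inv_mem _ ?_ ((key x).1 hc))
    calc z⁻¹ * x * z * (z⁻¹ * x * z) = z⁻¹ * (x * x) * z := by group
      _ = 1 := by rw [h2]; group
  · intro x hx
    exact (key x).2 (L.cent _ fun v hv => (key x).1 (hx _ ⟨v, hv, rfl⟩))
  · rintro _ ⟨v, hv, rfl⟩ hne x hc h3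
    have hne' : v ≠ 1 := fun e => hne (by rw [e, map_one])
    have h := L.three v hv hne' (z⁻¹ * x * z) ((key x).1 hc) (by
      rw [show z⁻¹ * x * z = z⁻¹ * x * (z⁻¹)⁻¹ by group, conj_pow, h3]; group)
    obtain ⟨i, hi⟩ := Subgroup.mem_zpowers_iff.1 h
    refine Subgroup.mem_zpowers_iff.2 ⟨i, ?_⟩
    rw [conj_zpow, hi]; group
  · rintro _ ⟨v, hv, rfl⟩ hne x hc hca
    have hne' : v ≠ 1 := fun e => hne (by rw [e, map_one])
    refine hmem ?_
    have h := L.six v hv hne' (z⁻¹ * x * z) ((key x).1 hc) ((key x).1 hca)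
    rwa [show z⁻¹ * x * z = z⁻¹ * x * (z⁻¹)⁻¹ by group, conj_pow, inv_inv] at h

/-- The normaliser of `⟨a⟩` normalises `V`. -/
theorem Loc.norm {x : G} (hx : x * a * x⁻¹ = a ∨ x * a * x⁻¹ = a⁻¹) {v : G} (hv : v ∈ V) :
    x * v * x⁻¹ ∈ V := by
  refine L.inv_mem _ ?_ ?_
  · rw [show x * v * x⁻¹ * (x * v * x⁻¹) = x * (v * v) * x⁻¹ by group, L.sq v hv]; group
  · have h : Commute (x * v * x⁻¹) (x * a * x⁻¹) := (L.le v hv).map (MulAut.conj x).toMonoidHom
    rcases hx with e | e <;> rw [e] at h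
    · exact h
    · exact Commute.inv_right_iff.1 h

/-- Two elements generate `V`. -/
theorem Loc.cases {u v : G} (hu : u ∈ V) (hv : v ∈ V) (hu1 : u ≠ 1) (hv1 : v ≠ 1) (huv : u ≠ v) {x : G}
    (hx : x ∈ V) : x = 1 ∨ x = u ∨ x = v ∨ x = u * v := by
  have hc : u * v = v * u := by
    have h := L.sq _ (mul_mem hu hv)
    calc u * v = (u * v)⁻¹ := (inv_eq_of_mul_eq_one_right h).symm
      _ = v * u := by
        rw [mul_inv_rev, inv_eq_of_mul_eq_one_right (L.sq u hu), inv_eq_of_mul_eq_one_right (L.sq v hv)]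
  have hle : fourGroup u v (L.sq u hu) (L.sq v hv) hc ≤ V := fun y hy => by
    rcases mem_fourGroup.1 hy with rfl | rfl | rfl | rfl
    exacts [one_mem V, hu, hv, mul_mem hu hv]
  have hcard : 4 ≤ Nat.card (fourGroup u v (L.sq u hu) (L.sq v hv) hc) := by
    classical
    have huv1 : u * v ≠ 1 := fun e => huv ((mul_eq_one_iff_eq_inv.1 e).trans (inv_eq_of_mul_eq_one_right (L.sq v hv)))
    have h4 : ({1, u, v, u * v} : Finset G).card = 4 := by
      rw [Finset.card_insert_of_notMem (by simp [hu1.symm, hv1.symm, huv1.symm]),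
        Finset.card_insert_of_notMem (by simp [huv, hv1]), Finset.card_pair (by simp [hu1])]
    rw [← h4, ← Nat.card_eq_finsetCard]
    refine Nat.card_le_card_of_injective (fun y => ⟨y.1, by
      have := y.2
      simp only [Finset.mem_insert, Finset.mem_singleton] at this
      exact mem_fourGroup.2 this⟩) fun y z h => Subtype.ext (congrArg Subtype.val h :)
  rw [← Subgroup.eq_of_le_of_card_ge hle (by rw [L.card]; exact hcard)] at hx
  exact mem_fourGroup.1 hx

/-- An element centralising two involutions of `V` centralises `a`. -/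
theorem Loc.cent_two {u v x : G} (hu : u ∈ V) (hv : v ∈ V) (hu1 : u ≠ 1) (hv1 : v ≠ 1) (huv : u ≠ v)
    (hxu : Commute x u) (hxv : Commute x v) : Commute x a := by
  refine L.cent x fun y hy => ?_
  rcases L.cases hu hv hu1 hv1 huv hy with rfl | rfl | rfl | rfl
  exacts [Commute.one_right x, hxu, hxv, hxu.mul_right hxv]

/-- An element of order three of `C(a)` outside `⟨a⟩` moves every involution of `V`. -/
theorem Loc.moves {h u : G} (hna : h ∉ Subgroup.zpowers a) (h3 : h ^ 3 = 1) (hu : u ∈ V)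
    (hu1 : u ≠ 1) : ¬ Commute h u := fun hc => hna (L.three u hu hu1 h hc h3)

/-- Such an element times an involution of `V` has order three. -/
theorem Loc.mul_pow_three {h u : G} (hha : Commute h a) (hna : h ∉ Subgroup.zpowers a) (h3 : h ^ 3 = 1)
    (hu : u ∈ V) : (h * u) ^ 3 = 1 := by
  rcases eq_or_ne u 1 with rfl | hu1
  · rw [mul_one, h3]
  set u₁ := h * u * h⁻¹ with h1d
  set u₂ := h * u₁ * h⁻¹ with h2d
  have hxa : h * a * h⁻¹ = a := by rw [hha.eq, mul_inv_cancel_right]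
  have hu₁ : u₁ ∈ V := L.norm (Or.inl hxa) hu
  have hu₂ : u₂ ∈ V := L.norm (Or.inl hxa) hu₁
  have h11 : u₁ ≠ 1 := fun e => hu1 (conj_eq_one_iff.1 e)
  have h12 : u₁ ≠ u := fun e => L.moves hna h3 hu hu1 (mul_inv_eq_iff_eq_mul.1 e)
  have hhh : h * h * h = 1 := by rw [← pow_two, ← pow_succ]; exact h3
  have h21 : u₂ = u * u₁ := by
    rcases L.cases hu hu₁ hu1 h11 h12.symm hu₂ with e | e | e | e
    · exact absurd (conj_eq_one_iff.1 e) h11
    · exfalso
      apply h12
      have h' : h * u₂ * h⁻¹ = u₁ := by rw [e]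
      rw [h2d, h1d, show h * (h * (h * u * h⁻¹) * h⁻¹) * h⁻¹ = h * h * h * u * (h * h * h)⁻¹ by group,
        hhh] at h'
      simpa using h'.symm
    · exact absurd (mul_inv_eq_iff_eq_mul.1 e) (L.moves hna h3 hu₁ h11)
    · exact e
  have hcomm : u * u₁ = u₁ * u := by
    calc u * u₁ = (u * u₁)⁻¹ := (inv_eq_of_mul_eq_one_right (L.sq _ (mul_mem hu hu₁))).symm
      _ = u₁ * u := by
        rw [mul_inv_rev, inv_eq_of_mul_eq_one_right (L.sq u hu), inv_eq_of_mul_eq_one_right (L.sq u₁ hu₁)]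
  calc (h * u) ^ 3 = u₁ * u₂ * (h * h * h * u * (h * h * h)⁻¹) * (h * h * h) := by
        rw [h1d, h2d, pow_succ, pow_two, h1d]; group
    _ = u₁ * (u * u₁) * u := by rw [hhh, h21]; group
    _ = u₁ * u₁ * (u * u) := by rw [hcomm]; group
    _ = 1 := by rw [L.sq u hu, L.sq u₁ hu₁, one_mul]

/-- An involution normalising `⟨a⟩` centralises an involution of `V`. -/
theorem Loc.exists_fixed {b : G} (hb : b * b = 1) (hba : b * a * b⁻¹ = a ∨ b * a * b⁻¹ = a⁻¹) :
    ∃ u ∈ V, u ≠ 1 ∧ Commute b u := by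
  obtain ⟨v, hv, hv1⟩ : ∃ v ∈ V, v ≠ 1 := by
    by_contra h
    push Not at h
    have := L.card
    rw [Subgroup.eq_bot_iff_forall _ |>.2 h, Subgroup.card_bot] at this
    omega
  set v' := b * v * b⁻¹ with hv'
  by_cases hvv : v' = v
  · exact ⟨v, hv, hv1, mul_inv_eq_iff_eq_mul.1 hvv⟩
  have hv'm : v' ∈ V := L.norm hba hv
  refine ⟨v * v', mul_mem hv hv'm, fun e => hvv ?_, mul_inv_eq_iff_eq_mul.1 ?_⟩
  · rw [← inv_eq_of_mul_eq_one_right e]; exact inv_eq_of_mul_eq_one_right (L.sq v hv)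
  · have hcomm : v * v' = v' * v := by
      calc v * v' = (v * v')⁻¹ := (inv_eq_of_mul_eq_one_right (L.sq _ (mul_mem hv hv'm))).symm
        _ = v' * v := by
          rw [mul_inv_rev, inv_eq_of_mul_eq_one_right (L.sq v hv), inv_eq_of_mul_eq_one_right (L.sq v' hv'm)]
    have hb' : b * v' * b⁻¹ = v := by
      rw [hv', show b * (b * v * b⁻¹) * b⁻¹ = b * b * v * (b * b)⁻¹ by group, hb]; group
    rw [show b * (v * v') * b⁻¹ = (b * v * b⁻¹) * (b * v' * b⁻¹) by group, hb', ← hv']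
    exact hcomm.symm

end loc

variable {P : Sylow 2 G} {σ τ : G} {O : Subgroup G} (S : Setup P σ τ O)
include S

/-- A `2`-element with trivial odd power. -/
theorem Setup.pow_odd_eq_one {s : G} (hs : s ∈ (P : Subgroup G)) {n : ℕ} (hn : Odd n) (h : s ^ n = 1) :
    s = 1 := by
  obtain ⟨r, hr⟩ := IsPGroup.iff_orderOf.1 P.2 ⟨s, hs⟩
  have hr' : orderOf s = 2 ^ r := by rw [← hr, ← Subgroup.orderOf_coe]
  refine orderOf_eq_one_iff.1 ?_
  have h' := orderOf_dvd_of_pow_eq_one h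
  rw [hr'] at h' ⊢
  rcases Nat.eq_zero_or_pos r with rfl | hr0
  · rfl
  · exfalso
    obtain ⟨k, hk⟩ := hn
    have := Dvd.dvd.trans (dvd_pow_self 2 hr0.ne') h'
    omega

/-- The data of the case `|W| = 3`, `|X| = 36`. -/
theorem Setup.exists_loc (hO : O = W O τ) (h3 : Nat.card (W O τ) = 3) (h36 : Nat.card (X O τ) = 36) {w : G}
    (hw : w ∈ W O τ) (hw1 : w ≠ 1) :
    W O τ = Subgroup.zpowers w ∧ (∀ x : G, Commute x w ↔ x ∈ X O τ) ∧ ∃ V : Subgroup G, Loc w V ∧ σ ^ 2 ∈ V := by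
  have hwz : W O τ = Subgroup.zpowers w := by
    refine (Subgroup.eq_of_le_of_card_ge (Subgroup.zpowers_le.2 hw) ?_).symm
    rw [h3, Nat.card_zpowers]
    have hd : orderOf w ∣ 3 := by
      rw [← h3, ← Subgroup.orderOf_mk w hw]; exact orderOf_dvd_natCard _
    rcases (Nat.dvd_prime Nat.prime_three).1 hd with e | e
    · exact absurd (orderOf_eq_one_iff.1 e) hw1
    · omega
  have hwX : ∀ x : G, Commute x w ↔ x ∈ X O τ := by
    intro x
    rw [mem_X]
    refine ⟨fun h v hv => ?_, fun h => h w hw⟩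
    obtain ⟨i, rfl⟩ := Subgroup.mem_zpowers_iff.1 (hwz ▸ hv)
    exact h.zpow_right i
  have hwO : w ∈ O := (mem_W.1 hw).1
  have hOz : O = Subgroup.zpowers w := hO.trans hwz
  refine ⟨hwz, hwX, fourGroup (σ ^ 2) τ S.t_sq S.gen.bb (S.comm_t S.gen.bmem).symm.eq, ?_,
    mem_fourGroup.2 (Or.inr (Or.inl rfl))⟩
  set V := fourGroup (σ ^ 2) τ S.t_sq S.gen.bb (S.comm_t S.gen.bmem).symm.eq with hV
  have hmem : ∀ {s : G}, s ∈ V ↔ s = 1 ∨ s = σ ^ 2 ∨ s = τ ∨ s = σ ^ 2 * τ := mem_fourGroup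
  have hVP : ∀ {s : G}, s ∈ V → s ∈ (P : Subgroup G) := fun {s} hs => by
    rcases hmem.1 hs with rfl | rfl | rfl | rfl
    · exact one_mem _
    · exact pow_mem S.gen.amem 2
    · exact S.gen.bmem
    · exact mul_mem (pow_mem S.gen.amem 2) S.gen.bmem
  have hVsq : ∀ v ∈ V, v * v = 1 := by
    intro v hv
    rcases hmem.1 hv with rfl | rfl | rfl | rfl
    · exact one_mul 1
    · exact S.t_sq
    · exact S.gen.bb
    · rw [(S.comm_t S.gen.bmem).mul_mul_mul_comm (σ ^ 2) τ, S.t_sq, S.gen.bb, one_mul]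
  have hne3 : σ ^ 2 ≠ τ := fun e => S.tau_ne e.symm
  have hne1 : σ ^ 2 ≠ 1 := Dihedral.ne_one S.t_order
  have hne2 : τ ≠ 1 := by simpa using refl_ne_one S.gen 0
  have hcard : Nat.card V = 4 := by
    classical
    have hne4 : σ ^ 2 * τ ≠ 1 := fun e => hne3 ((mul_eq_one_iff_eq_inv.1 e).trans
      (inv_eq_of_mul_eq_one_right S.gen.bb))
    have h4 : ({1, σ ^ 2, τ, σ ^ 2 * τ} : Finset G).card = 4 := by
      rw [Finset.card_insert_of_notMem (by simp [hne1.symm, hne2.symm, hne4.symm]),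
        Finset.card_insert_of_notMem (by simp [hne3, hne2]), Finset.card_pair (by simp [hne1])]
    rw [← h4, ← Nat.card_eq_finsetCard]
    exact Nat.card_congr (Equiv.subtypeEquivRight fun s => by simp [hmem])
  have hVX : V ≤ X O τ := fun v hv => S.four_mem_X (hmem.1 hv)
  obtain ⟨n, hn1, hn2⟩ := S.exists_cycle
  have hn3 : n * (σ ^ 2 * τ) * n⁻¹ = σ ^ 2 := by
    rw [show n * (σ ^ 2 * τ) * n⁻¹ = (n * σ ^ 2 * n⁻¹) * (n * τ * n⁻¹) by group, hn1, hn2,
      (S.comm_t S.gen.bmem).symm.eq, ← mul_assoc, S.gen.bb, one_mul]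
  have hnw : Commute n w := mul_inv_eq_iff_eq_mul.1 (S.cycle_centralizes hn1 hn2 hw)
  have hnX : n ∈ X O τ := (hwX n).1 hnw
  -- `V` is normal in `X`
  have hnorm : ∀ x ∈ X O τ, ∀ v ∈ V, x * v * x⁻¹ ∈ V := by
    let M : Subgroup G := X O τ ⊓ Subgroup.normalizer (V : Set G)
    have hMX : M ≤ X O τ := inf_le_left
    have hCM : Subgroup.centralizer ({σ ^ 2, τ} : Set G) ≤ M := by
      intro x hx
      rw [Subgroup.mem_centralizer_iff] at hx
      have c1 : Commute x (σ ^ 2) := (hx _ (Or.inl rfl)).symm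
      have c2 : Commute x τ := (hx _ (Or.inr rfl)).symm
      refine Subgroup.mem_inf.2 ⟨(hwX x).1 (mul_inv_eq_iff_eq_mul.1 (S.centralizes_W c1 c2 hw)),
        Subgroup.mem_normalizer_iff.2 fun v => ?_⟩
      have hcv : ∀ u ∈ V, x * u * x⁻¹ = u := fun u hu => by
        have hc : Commute x u := by
          rcases hmem.1 hu with rfl | rfl | rfl | rfl
          exacts [Commute.one_right x, c1, c2, c1.mul_right c2]
        rw [hc.eq, mul_inv_cancel_right]
      refine ⟨fun hv => (hcv v hv).symm ▸ hv, fun hv => ?_⟩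
      have h := hcv _ hv
      rw [show x * (x * v * x⁻¹) * x⁻¹ = x * (x * v * x⁻¹) * x⁻¹ from rfl, mul_left_inj, mul_right_inj] at h
      rwa [← h]
    have hnM : n ∈ M := by
      refine Subgroup.mem_inf.2 ⟨hnX, ?_⟩
      have hmap : V.map (MulAut.conj n).toMonoidHom = V := by
        refine Subgroup.eq_of_le_of_card_ge ?_ (by rw [Subgroup.card_map_of_injective (MulAut.conj n).injective])
        rintro _ ⟨v, hv, rfl⟩
        rw [MulEquiv.coe_toMonoidHom, MulAut.conj_apply]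
        rcases hmem.1 hv with rfl | rfl | rfl | rfl
        · simp
        · rw [hn1]; exact hmem.2 (Or.inr (Or.inr (Or.inl rfl)))
        · rw [hn2]; exact hmem.2 (Or.inr (Or.inr (Or.inr rfl)))
        · rw [hn3]; exact hmem.2 (Or.inr (Or.inl rfl))
      refine Subgroup.mem_normalizer_iff.2 fun v => ⟨fun hv => hmap ▸ ⟨v, hv, rfl⟩, fun hv => ?_⟩
      rw [← hmap] at hv
      obtain ⟨y, hy, e⟩ := hv
      rw [MulEquiv.coe_toMonoidHom, MulAut.conj_apply, mul_left_inj, mul_right_inj] at e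
      rwa [← e]
    have h12 : 12 ∣ Nat.card M := by
      have h := Subgroup.card_dvd_of_le hCM
      rwa [S.card_cent_two, h3] at h
    have hne : Nat.card M ≠ 12 := by
      intro h
      have he : Subgroup.centralizer ({σ ^ 2, τ} : Set G) = M :=
        Subgroup.eq_of_le_of_card_ge hCM (by rw [S.card_cent_two, h3, h])
      have hn := he ▸ hnM
      rw [Subgroup.mem_centralizer_iff] at hn
      have e := hn _ (Or.inl rfl)
      rw [← e, mul_inv_cancel_right] at hn1
      exact hne3 hn1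
    have hM36 : M = X O τ := by
      refine Subgroup.eq_of_le_of_card_ge hMX ?_
      have hd := Subgroup.card_dvd_of_le hMX
      rw [h36] at hd ⊢
      obtain ⟨r, hr⟩ := h12
      rw [hr] at hd hne ⊢
      have : r ∣ 3 := Nat.dvd_of_mul_dvd_mul_left (by norm_num : 0 < 12) hd
      rcases (Nat.dvd_prime Nat.prime_three).1 this with rfl | rfl
      · simp at hne
      · norm_num
    intro x hx v hv
    exact (Subgroup.mem_normalizer_iff.1 (Subgroup.mem_inf.1 (hM36 ▸ hx)).2 v).1 hv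
  -- the `2`-elements of `X` lie in `V`
  have htwo : ∀ {s : G}, s ∈ X O τ → (∃ m : ℕ, s ^ 2 ^ m = 1) → s ∈ V := by
    rintro s hs ⟨m, hm⟩
    let Vx := V.subgroupOf (X O τ)
    have : Vx.Normal := ⟨fun v hv x => hnorm x x.2 v hv⟩
    have hidx : Vx.index = 9 := by
      have h := Vx.index_mul_card
      rw [Nat.card_congr (Subgroup.subgroupOfEquivOfLe hVX).toEquiv, hcard, h36] at h
      omega
    have h9 : ((⟨s, hs⟩ : X O τ) : X O τ ⧸ Vx) ^ 9 = 1 := hidx ▸ pow_card_eq_one'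
    have h2 : ((⟨s, hs⟩ : X O τ) : X O τ ⧸ Vx) ^ 2 ^ m = 1 := by
      rw [← QuotientGroup.mk_pow, show (⟨s, hs⟩ : X O τ) ^ 2 ^ m = 1 from Subtype.ext hm, QuotientGroup.mk_one]
    have h := pow_gcd_eq_one.2 ⟨h9, h2⟩
    rw [show Nat.gcd 9 (2 ^ m) = 1 from Nat.Coprime.pow_right m (by norm_num), pow_one] at h
    exact (QuotientGroup.eq_one_iff (N := Vx) ⟨s, hs⟩).1 h
  -- the assertions at `t`
  have hPpow : ∀ {s : G}, s ∈ (P : Subgroup G) → ∃ m : ℕ, s ^ 2 ^ m = 1 := fun {s} hs => by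
    obtain ⟨m, hm⟩ := P.2 ⟨s, hs⟩
    exact ⟨m, congrArg Subtype.val hm⟩
  have hthree_t : ∀ x : G, Commute x (σ ^ 2) → x ^ 3 = 1 → x ∈ Subgroup.zpowers w := by
    intro x hx hx3
    obtain ⟨o, ho, s, hs, rfl⟩ := S.decomp x hx
    have hs3 : s ^ 3 ∈ O := by
      have : s ^ 3 = (o * (s * o * s⁻¹) * (s * (s * o * s⁻¹) * s⁻¹))⁻¹ := by
        rw [eq_inv_iff_mul_eq_one, ← mul_eq_one_comm, ← hx3, pow_succ, pow_two, pow_succ, pow_two]
        group
      rw [this]
      exact inv_mem (mul_mem (mul_mem ho (S.conj_mem hs ho)) (S.conj_mem hs (S.conj_mem hs ho)))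
    have hs1 := S.pow_odd_eq_one hs (by decide : Odd 3) (S.disjoint hs3 (pow_mem hs 3))
    rw [hs1, mul_one, ← hOz]
    exact ho
  have hsix_t : ∀ x : G, Commute x (σ ^ 2) → Commute x w → x ^ 3 ∈ V := by
    intro x hx hxw
    obtain ⟨o, ho, s, hs, rfl⟩ := S.decomp x hx
    have hoX : o ∈ X O τ := S.O_le_X ho
    have hsX : s ∈ X O τ := (Subgroup.mul_mem_cancel_left _ hoX).1 ((hwX _).1 hxw)
    have hsV := htwo hsX (hPpow hs)
    obtain ⟨i, rfl⟩ := Subgroup.mem_zpowers_iff.1 (hOz ▸ ho)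
    have hcs : Commute (w ^ i) s := ((hwX s).2 hsX).symm.zpow_left i
    have hw3 : (w ^ i) ^ 3 = 1 := by
      rw [← h3]
      exact congrArg Subtype.val (pow_card_eq_one' (x := (⟨w ^ i, zpow_mem hw i⟩ : W O τ)))
    rw [hcs.mul_pow, hw3, one_mul]
    exact pow_mem hsV 3
  -- transport to the other involutions
  have hmove : ∀ v ∈ V, v ≠ 1 → ∃ m : G, Commute m w ∧ m * v * m⁻¹ = σ ^ 2 := by
    intro v hv hv1
    rcases hmem.1 hv with e | e | e | e
    · exact absurd e hv1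
    · exact ⟨1, Commute.one_left w, by rw [e]; group⟩
    · exact ⟨n * n, hnw.mul_left hnw, by
        rw [e, show n * n * τ * (n * n)⁻¹ = n * (n * τ * n⁻¹) * n⁻¹ by group, hn2, hn3]⟩
    · exact ⟨n, hnw, by rw [e, hn3]⟩
  refine ⟨hcard, hVsq, fun v hv => (hwX v).2 (hVX hv), ?_, ?_, ?_, ?_⟩
  · intro x hx2 hxw
    exact htwo ((hwX x).1 hxw) ⟨1, by rw [pow_one, pow_two, hx2]⟩
  · intro x hx
    exact mul_inv_eq_iff_eq_mul.1 (S.centralizes_W (hx _ (hmem.2 (Or.inr (Or.inl rfl))))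
      (hx _ (hmem.2 (Or.inr (Or.inr (Or.inl rfl))))) hw)
  · intro v hv hv1 x hxv hx3
    obtain ⟨m, hmw, hmv⟩ := hmove v hv hv1
    have hc : Commute (m * x * m⁻¹) (σ ^ 2) := by
      rw [← hmv]; exact hxv.map (MulAut.conj m).toMonoidHom
    obtain ⟨i, hi⟩ := Subgroup.mem_zpowers_iff.1 (hthree_t _ hc (by rw [conj_pow, hx3]; group))
    refine Subgroup.mem_zpowers_iff.2 ⟨i, ?_⟩
    have hi' : w ^ i = m * x * m⁻¹ := hi
    have e : m * w ^ i * m⁻¹ = w ^ i := by rw [(hmw.zpow_right i).eq, mul_inv_cancel_right]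
    calc w ^ i = m⁻¹ * (m * w ^ i * m⁻¹) * m := by group
      _ = x := by rw [e, hi']; group
  · intro v hv hv1 x hxv hxw
    obtain ⟨m, hmw, hmv⟩ := hmove v hv hv1
    have hc : Commute (m * x * m⁻¹) (σ ^ 2) := by
      rw [← hmv]; exact hxv.map (MulAut.conj m).toMonoidHom
    have hcw : Commute (m * x * m⁻¹) w := (hmw.mul_left hxw).mul_left hmw.inv_left
    have h := hsix_t _ hc hcw
    rw [conj_pow] at h
    have h' := hnorm m⁻¹ (inv_mem ((hwX m).1 hmw)) _ h
    simpa [mul_assoc] using h'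

end CfsgLib.SelfCentFour
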