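import Cfsg.Agent.Lib.Involution.DihedralSylowClasses
import Mathlib.GroupTheory.FixedPointFree

/-!
# Self-centralising elements of order four: the centraliser of an involution

`C(t) = O P` with `O` abelian of odd order inverted by `σ`, and `O = W(τ) × W(στ)`.
-/

set_option autoImplicit false
set_option linter.unusedSectionVars false

namespace CfsgLib.SelfCentFour

open CfsgLib.Involution CfsgLib.Involution.DihedralSylow

variable {G : Type*} [Group G] [Finite G]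

/-- The configuration: a dihedral Sylow subgroup of order eight, a self-centralising rotation and the
odd part of the centraliser of the central involution. -/
structure Setup (P : Sylow 2 G) (σ τ : G) (O : Subgroup G) : Prop where
  gen : Gen (P : Subgroup G) σ τ 1
  cent : ∀ x : G, Commute x σ → x ∈ Subgroup.zpowers σ
  hone : ∀ a b : G, orderOf a = 2 → orderOf b = 2 → IsConj a b
  odd : Odd (Nat.card O)
  le : ∀ o ∈ O, Commute o (σ ^ 2)
  norm : ∀ x : G, Commute x (σ ^ 2) → ∀ o ∈ O, x * o * x⁻¹ ∈ O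
  decomp : ∀ x : G, Commute x (σ ^ 2) → ∃ o ∈ O, ∃ s ∈ (P : Subgroup G), x = o * s

/-- The part of `O` centralised by `b`. -/
def W (O : Subgroup G) (b : G) : Subgroup G := O ⊓ Subgroup.centralizer ({b} : Set G)

theorem mem_W {O : Subgroup G} {b x : G} : x ∈ W O b ↔ x ∈ O ∧ Commute x b := by
  rw [W, Subgroup.mem_inf, Subgroup.mem_centralizer_singleton_iff]
  exact Iff.rfl

theorem odd_pow_two_injective {H : Subgroup G} (hH : Odd (Nat.card H)) {x : G} (hx : x ∈ H)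
    (h2 : x * x = 1) : x = 1 := by
  have h1 : orderOf x ∣ 2 := orderOf_dvd_of_pow_eq_one (by rw [pow_two, h2])
  have h3 : Odd (orderOf x) := by
    refine hH.of_dvd_nat ?_
    rw [← Nat.card_zpowers]
    exact Subgroup.card_dvd_of_le (Subgroup.zpowers_le.2 hx)
  rcases (Nat.dvd_prime Nat.prime_two).1 h1 with h | h
  · exact orderOf_eq_one_iff.1 h
  · rw [h] at h3; norm_num at h3

variable {P : Sylow 2 G} {σ τ : G} {O : Subgroup G} (S : Setup P σ τ O)
include S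

theorem Setup.ord_four : orderOf σ = 4 := by rw [S.gen.ord]; norm_num

theorem Setup.t_order : orderOf (σ ^ 2) = 2 := by rw [orderOf_pow, S.ord_four]; rfl

theorem Setup.t_eq : σ ^ 2 = σ ^ ((2 : ℤ) ^ 1) := by norm_num [zpow_ofNat]

theorem Setup.comm_t {s : G} (hs : s ∈ (P : Subgroup G)) : Commute s (σ ^ 2) := by
  rw [S.t_eq]; exact (z_comm S.gen s hs).symm

theorem Setup.disjoint {x : G} (hxO : x ∈ O) (hxP : x ∈ (P : Subgroup G)) : x = 1 := by
  obtain ⟨n, hn⟩ := IsPGroup.iff_orderOf.1 P.2 ⟨x, hxP⟩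
  rw [← Subgroup.orderOf_coe] at hn
  have h3 : Odd (orderOf x) := by
    refine S.odd.of_dvd_nat ?_
    rw [← Nat.card_zpowers]
    exact Subgroup.card_dvd_of_le (Subgroup.zpowers_le.2 hxO)
  rcases Nat.eq_zero_or_pos n with h | h
  · exact orderOf_eq_one_iff.1 (by rw [hn, h, pow_zero])
  · exfalso
    change orderOf x = 2 ^ n at hn
    rw [hn, Nat.odd_pow_iff h.ne'] at h3
    norm_num at h3

theorem Setup.conj_mem {s o : G} (hs : s ∈ (P : Subgroup G)) (ho : o ∈ O) : s * o * s⁻¹ ∈ O :=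
  S.norm s (S.comm_t hs) o ho

/-- The rotation inverts `O`. -/
theorem Setup.inverts {o : G} (ho : o ∈ O) : σ * o * σ⁻¹ = o⁻¹ := by
  let φ : O →* O :=
    { toFun := fun x => ⟨σ * x * σ⁻¹, S.conj_mem S.gen.amem x.2⟩
      map_one' := Subtype.ext (by simp)
      map_mul' := fun x y => Subtype.ext (by simp [mul_assoc]) }
  have hfp : MonoidHom.FixedPointFree φ := fun x hx => by
    have hc : Commute (x : G) σ := by
      have h := congrArg Subtype.val hx
      exact (mul_inv_eq_iff_eq_mul.1 h).symm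
    exact Subtype.ext (S.disjoint x.2 ((Subgroup.zpowers_le.2 S.gen.amem) (S.cent _ hc)))
  have hinv : Function.Involutive φ := fun x => Subtype.ext (by
    show σ * (σ * (x : G) * σ⁻¹) * σ⁻¹ = x
    have h := (S.le x x.2).eq
    calc σ * (σ * (x : G) * σ⁻¹) * σ⁻¹ = σ ^ 2 * x * (σ ^ 2)⁻¹ := by simp only [pow_two, mul_inv_rev, mul_assoc]
      _ = x := by rw [← h, mul_inv_cancel_right])
  exact congrArg Subtype.val (congrFun (hfp.coe_eq_inv_of_involutive hinv) ⟨o, ho⟩)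

theorem Setup.comm {x y : G} (hx : x ∈ O) (hy : y ∈ O) : Commute x y := by
  have h := S.inverts (mul_mem hx hy)
  rw [show σ * (x * y) * σ⁻¹ = (σ * x * σ⁻¹) * (σ * y * σ⁻¹) by group, S.inverts hx, S.inverts hy,
    mul_inv_rev] at h
  calc x * y = (y⁻¹ * x⁻¹)⁻¹ := by group
    _ = (x⁻¹ * y⁻¹)⁻¹ := by rw [h]
    _ = y * x := by group

/-- The other pair of generators. -/
theorem Setup.swap : Setup P σ (σ * τ) O where
  gen :=
    { amem := S.gen.amem
      bmem := mul_mem S.gen.amem S.gen.bmem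
      ord := S.gen.ord
      bb := by simpa using refl_sq S.gen 1
      nb := by simpa using refl_not_rot S.gen 1
      conj := by
        rw [mul_inv_rev, show σ * τ * σ * (τ⁻¹ * σ⁻¹) = σ * (τ * σ * τ⁻¹) * σ⁻¹ by group, S.gen.conj]
        group
      cases := fun x hx => by
        rcases S.gen.cases x hx with ⟨i, rfl⟩ | ⟨i, rfl⟩
        · exact Or.inl ⟨i, rfl⟩
        · exact Or.inr ⟨i - 1, by group⟩ }
  cent := S.cent
  hone := S.hone
  odd := S.odd
  le := S.le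
  norm := S.norm
  decomp := S.decomp

theorem Setup.W_str_iff {o : G} (ho : o ∈ O) : Commute o (σ * τ) ↔ τ * o * τ⁻¹ = o⁻¹ := by
  have key : σ * τ * o * (σ * τ)⁻¹ = (τ * o * τ⁻¹)⁻¹ := by
    rw [← S.inverts (S.conj_mem S.gen.bmem ho)]; group
  constructor
  · intro h
    have h' : σ * τ * o * (σ * τ)⁻¹ = o := by rw [← h.eq, mul_inv_cancel_right]
    rw [key] at h'
    exact inv_eq_iff_eq_inv.1 h'
  · intro h
    rw [h, inv_inv, mul_inv_eq_iff_eq_mul] at key
    exact key.symm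

theorem Setup.card_O : Nat.card O = Nat.card (W O τ) * Nat.card (W O (σ * τ)) := by
  rw [← Nat.card_prod]
  refine (Nat.card_eq_of_bijective
    (fun p : W O τ × W O (σ * τ) => (⟨p.1 * p.2, mul_mem (mem_W.1 p.1.2).1 (mem_W.1 p.2.2).1⟩ : O))
    ⟨?_, ?_⟩).symm
  · rintro ⟨a, b⟩ ⟨a', b'⟩ he
    have he' : (a : G) * b = a' * b' := congrArg Subtype.val he
    have hmem : (a' : G)⁻¹ * a = b' * (b : G)⁻¹ := by
      calc (a' : G)⁻¹ * a = (a' : G)⁻¹ * (a * b) * (b : G)⁻¹ := by group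
        _ = b' * (b : G)⁻¹ := by rw [he']; group
    have h1 : (a' : G)⁻¹ * a ∈ W O τ := mul_mem (inv_mem a'.2) a.2
    have h2 : (a' : G)⁻¹ * a ∈ W O (σ * τ) := hmem ▸ mul_mem b'.2 (inv_mem b.2)
    obtain ⟨hO, hc1⟩ := mem_W.1 h1
    have hc2 := (S.W_str_iff hO).1 (mem_W.1 h2).2
    rw [← hc1.eq, mul_inv_cancel_right] at hc2
    have h1' : (a' : G)⁻¹ * a = 1 := odd_pow_two_injective S.odd hO (by
      nth_rewrite 2 [hc2]; exact mul_inv_cancel _)
    have ha : (a : G) = a' := (inv_mul_eq_one.1 h1').symm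
    exact Prod.ext (Subtype.ext ha) (Subtype.ext (mul_left_cancel (ha ▸ he')))
  · -- square roots exist in `O`
    have hsq : Function.Surjective fun x : O => x * x := by
      refine Finite.surjective_of_injective fun x y hxy => ?_
      have hxy' : (x : G) * x = y * y := congrArg Subtype.val hxy
      refine Subtype.ext (inv_mul_eq_one.1 (odd_pow_two_injective S.odd (mul_mem (inv_mem x.2) y.2) ?_))
      calc (x : G)⁻¹ * y * ((x : G)⁻¹ * y) = (x : G)⁻¹ * ((y : G) * (x : G)⁻¹) * y := by group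
        _ = (x : G)⁻¹ * ((x : G)⁻¹ * y) * y := by rw [(S.comm y.2 (inv_mem x.2)).eq]
        _ = ((x : G) * x)⁻¹ * (y * y) := by group
        _ = 1 := by rw [hxy', inv_mul_cancel]
    intro z
    obtain ⟨x, hx⟩ := hsq z
    have hxz : (x : G) * x = z := congrArg Subtype.val hx
    have hy := S.conj_mem S.gen.bmem x.2
    have htt : τ * (τ * x * τ⁻¹) * τ⁻¹ = x := by
      rw [show τ * (τ * (x : G) * τ⁻¹) * τ⁻¹ = τ * τ * x * (τ * τ)⁻¹ by group, S.gen.bb]; group
    refine ⟨(⟨x * (τ * x * τ⁻¹), mem_W.2 ⟨mul_mem x.2 hy, ?_⟩⟩,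
      ⟨x * (τ * x * τ⁻¹)⁻¹, mem_W.2 ⟨mul_mem x.2 (inv_mem hy), ?_⟩⟩), Subtype.ext ?_⟩
    · have : τ * (x * (τ * x * τ⁻¹)) * τ⁻¹ = x * (τ * x * τ⁻¹) := by
        calc τ * (x * (τ * x * τ⁻¹)) * τ⁻¹ = (τ * x * τ⁻¹) * (τ * (τ * x * τ⁻¹) * τ⁻¹) := by group
          _ = (τ * x * τ⁻¹) * x := by rw [htt]
          _ = x * (τ * x * τ⁻¹) := (S.comm hy x.2).eq
      exact (mul_inv_eq_iff_eq_mul.1 this).symm
    · rw [S.W_str_iff (mul_mem x.2 (inv_mem hy))]
      calc τ * (x * (τ * x * τ⁻¹)⁻¹) * τ⁻¹ = (τ * x * τ⁻¹) * (τ * (τ * x * τ⁻¹) * τ⁻¹)⁻¹ := by group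
        _ = (τ * x * τ⁻¹) * (x : G)⁻¹ := by rw [htt]
        _ = _ := by group
    · show (x : G) * (τ * x * τ⁻¹) * (x * (τ * x * τ⁻¹)⁻¹) = z
      rw [← (S.comm x.2 hy).eq.symm, mul_assoc, ← mul_assoc (x : G) x, hxz]
      rw [(S.comm z.2 (inv_mem hy)).eq, ← mul_assoc, mul_inv_cancel, one_mul]

theorem Setup.card_cent : Nat.card (Subgroup.centralizer ({σ ^ 2} : Set G)) = 8 * Nat.card O := by
  have h8 : Nat.card P = 8 := by rw [card_sylow S.gen]; norm_num
  rw [← h8, mul_comm, ← Nat.card_prod]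
  refine (Nat.card_eq_of_bijective (fun p : O × P => (⟨p.1 * p.2, Subgroup.mem_centralizer_singleton_iff.2
    ((S.le p.1 p.1.2).mul_left (S.comm_t p.2.2)).eq⟩ : Subgroup.centralizer ({σ ^ 2} : Set G))) ⟨?_, ?_⟩).symm
  · rintro ⟨a, b⟩ ⟨a', b'⟩ he
    have he' : (a : G) * b = a' * b' := congrArg Subtype.val he
    have hmem : (a' : G)⁻¹ * a = b' * (b : G)⁻¹ := by
      calc (a' : G)⁻¹ * a = (a' : G)⁻¹ * (a * b) * (b : G)⁻¹ := by group
        _ = b' * (b : G)⁻¹ := by rw [he']; group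
    have h1 := S.disjoint (mul_mem (inv_mem a'.2) a.2) (hmem ▸ mul_mem b'.2 (inv_mem b.2))
    have ha : (a : G) = a' := (inv_mul_eq_one.1 h1).symm
    exact Prod.ext (Subtype.ext ha) (Subtype.ext (mul_left_cancel (ha ▸ he')))
  · rintro ⟨x, hx⟩
    obtain ⟨o, ho, s, hs, rfl⟩ := S.decomp x (Subgroup.mem_centralizer_singleton_iff.1 hx)
    exact ⟨(⟨o, ho⟩, ⟨s, hs⟩), rfl⟩

/-- The four elements centralised by the reflection. -/
theorem Setup.four {s : G} (hs : s ∈ (P : Subgroup G)) (hc : Commute s τ) :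
    s = 1 ∨ s = σ ^ 2 ∨ s = τ ∨ s = σ ^ 2 * τ := by
  rcases S.gen.cases s hs with ⟨i, rfl⟩ | ⟨i, rfl⟩
  · have h := conj_rot S.gen i 0
    rw [zpow_zero, one_mul, hc.eq, mul_inv_cancel_right] at h
    have h2 : σ ^ (2 * i) = 1 := by simpa using (mul_eq_right.1 h.symm)
    rw [two_mul, zpow_add] at h2
    rcases zpow_involution S.gen h2 with e | e
    · exact Or.inl e
    · exact Or.inr (Or.inl (by rw [e, ← S.t_eq]))
  · have hci : Commute (σ ^ i) τ := by
      have h := hc.mul_left (Commute.refl τ)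
      rwa [mul_assoc, S.gen.bb, mul_one] at h
    have h := conj_rot S.gen i 0
    rw [zpow_zero, one_mul, hci.eq, mul_inv_cancel_right] at h
    have h2 : σ ^ (2 * i) = 1 := by simpa using (mul_eq_right.1 h.symm)
    rw [two_mul, zpow_add] at h2
    rcases zpow_involution S.gen h2 with e | e
    · exact Or.inr (Or.inr (Or.inl (by rw [e, one_mul])))
    · exact Or.inr (Or.inr (Or.inr (by rw [e, ← S.t_eq])))

theorem Setup.decomp_two {x : G} (hx : Commute x (σ ^ 2)) (hxτ : Commute x τ) :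
    ∃ o ∈ W O τ, ∃ s, (s = 1 ∨ s = σ ^ 2 ∨ s = τ ∨ s = σ ^ 2 * τ) ∧ x = o * s := by
  obtain ⟨o, ho, s, hs, rfl⟩ := S.decomp x hx
  have hb : s * τ * s⁻¹ ∈ (P : Subgroup G) := mul_mem (mul_mem hs S.gen.bmem) (inv_mem hs)
  have h1 : o * (s * τ * s⁻¹) * o⁻¹ = τ := by
    rw [show o * (s * τ * s⁻¹) * o⁻¹ = o * s * τ * (o * s)⁻¹ by group, hxτ.eq, mul_inv_cancel_right]
  set b := s * τ * s⁻¹ with hbd
  have h2 : o * (b * o⁻¹ * b⁻¹) = τ * b⁻¹ := by rw [← h1]; group
  have h3 : o * (b * o⁻¹ * b⁻¹) = 1 := S.disjoint (mul_mem ho (S.conj_mem hb (inv_mem ho)))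
    (h2 ▸ mul_mem S.gen.bmem (inv_mem hb))
  rw [h2, mul_inv_eq_one] at h3
  have hs' : Commute s τ := mul_inv_eq_iff_eq_mul.1 h3.symm
  refine ⟨o, mem_W.2 ⟨ho, ?_⟩, s, S.four hs hs', rfl⟩
  rw [← h3] at h1
  exact mul_inv_eq_iff_eq_mul.1 h1

theorem Setup.card_cent_two :
    Nat.card (Subgroup.centralizer ({σ ^ 2, τ} : Set G)) = 4 * Nat.card (W O τ) := by
  classical
  set V : Finset G := {1, σ ^ 2, τ, σ ^ 2 * τ} with hV
  have hne1 : σ ^ 2 ≠ 1 := Dihedral.ne_one S.t_order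
  have hto : orderOf τ = 2 := by simpa using refl_orderOf S.gen 0
  have hne2 : τ ≠ 1 := Dihedral.ne_one hto
  have hne3 : σ ^ 2 ≠ τ := fun e => S.gen.nb (e ▸ Subgroup.npow_mem_zpowers σ 2)
  have h4 : V.card = 4 := by
    have : σ ^ 2 * τ ≠ 1 := fun e => hne3 ((mul_eq_one_iff_eq_inv.1 e).trans
      (inv_eq_of_mul_eq_one_right S.gen.bb))
    rw [hV, Finset.card_insert_of_notMem (by simp [hne1.symm, hne2.symm, this.symm]),
      Finset.card_insert_of_notMem (by simp [hne3, hne2]), Finset.card_pair (by simp [hne1])]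
  have hVmem : ∀ s ∈ V, s ∈ (P : Subgroup G) ∧ Commute s τ := by
    intro s hs
    simp only [hV, Finset.mem_insert, Finset.mem_singleton] at hs
    have hc : Commute (σ ^ 2) τ := (S.comm_t S.gen.bmem).symm
    rcases hs with rfl | rfl | rfl | rfl
    · exact ⟨one_mem _, Commute.one_left _⟩
    · exact ⟨pow_mem S.gen.amem 2, hc⟩
    · exact ⟨S.gen.bmem, Commute.refl _⟩
    · exact ⟨mul_mem (pow_mem S.gen.amem 2) S.gen.bmem, hc.mul_left (Commute.refl _)⟩
  rw [mul_comm, ← h4, ← Nat.card_eq_finsetCard V, ← Nat.card_prod]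
  refine (Nat.card_eq_of_bijective (fun p : W O τ × V => (⟨p.1 * p.2, ?_⟩ :
    Subgroup.centralizer ({σ ^ 2, τ} : Set G))) ⟨?_, ?_⟩).symm
  · rw [Subgroup.mem_centralizer_iff]
    rintro u (rfl | rfl)
    · exact ((S.le _ (mem_W.1 p.1.2).1).mul_left (S.comm_t (hVmem _ p.2.2).1)).eq.symm
    · exact ((mem_W.1 p.1.2).2.mul_left (hVmem _ p.2.2).2).eq.symm
  · rintro ⟨a, b⟩ ⟨a', b'⟩ he
    have he' : (a : G) * b = a' * b' := congrArg Subtype.val he
    have hmem : (a' : G)⁻¹ * a = b' * (b : G)⁻¹ := by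
      calc (a' : G)⁻¹ * a = (a' : G)⁻¹ * (a * b) * (b : G)⁻¹ := by group
        _ = b' * (b : G)⁻¹ := by rw [he']; group
    have h1 := S.disjoint (mul_mem (inv_mem (mem_W.1 a'.2).1) (mem_W.1 a.2).1)
      (hmem ▸ mul_mem (hVmem _ b'.2).1 (inv_mem (hVmem _ b.2).1))
    have ha : (a : G) = a' := (inv_mul_eq_one.1 h1).symm
    exact Prod.ext (Subtype.ext ha) (Subtype.ext (mul_left_cancel (ha ▸ he')))
  · rintro ⟨x, hx⟩
    rw [Subgroup.mem_centralizer_iff] at hx
    obtain ⟨o, ho, s, hs, rfl⟩ := S.decomp_two (hx _ (Or.inl rfl)).symm (hx _ (Or.inr rfl)).symm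
    exact ⟨(⟨o, ho⟩, ⟨s, by simpa [hV] using hs⟩), rfl⟩

omit S

/-- The configuration in a simple group. -/
theorem exists_setup [IsSimpleGroup G] (hG : ¬ IsMulCommutative G) {P : Sylow 2 G} {σ τ : G}
    (h : Gen (P : Subgroup G) σ τ 1) (hc : ∀ x : G, Commute x σ → x ∈ Subgroup.zpowers σ) :
    ∃ O : Subgroup G, Setup P σ τ O := by
  have : Fact (Nat.Prime 2) := ⟨Nat.prime_two⟩
  have hno : ∀ H : Subgroup G, H.index ≠ 2 := by
    intro H hH
    have hn := Subgroup.normal_of_index_eq_two hH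
    rcases hn.eq_bot_or_eq_top with e | e
    · rw [e, Subgroup.index_bot] at hH
      have := isCyclic_of_prime_card hH
      exact hG ⟨⟨fun a b => (IsCyclic.commGroup (α := G)).mul_comm a b⟩⟩
    · rw [e, Subgroup.index_top] at hH; omega
  have ht : σ ^ 2 = σ ^ ((2 : ℤ) ^ 1) := by norm_num [zpow_ofNat]
  set C := Subgroup.centralizer ({σ ^ ((2 : ℤ) ^ 1)} : Set G)
  obtain ⟨Q, N, hN, hcompl⟩ := (npc_centralizer h : Cfsg.HasNormalPComplement 2 C)
  have hPC : (P : Subgroup G) ≤ C := fun x hx =>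
    Subgroup.mem_centralizer_singleton_iff.2 (z_comm h x hx).eq.symm
  set P₀ : Sylow 2 C := P.subtype hPC
  have hNodd : Odd (Nat.card N) := by
    rw [← hcompl.index_eq_card]
    rw [Nat.odd_iff, ← Nat.two_dvd_ne_zero]
    exact Q.not_dvd_index
  have hidx : N.index = Nat.card P₀ := by
    rw [hcompl.symm.index_eq_card, Sylow.card_eq_multiplicity, Sylow.card_eq_multiplicity]
  refine ⟨N.map C.subtype, h, hc, all_conj_of_no_index_two h hno, ?_, ?_, ?_, ?_⟩
  · rw [Subgroup.card_subtype]; exact hNodd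
  · rintro _ ⟨x, -, rfl⟩
    rw [ht]
    exact Subgroup.mem_centralizer_singleton_iff.1 x.2
  · rintro x hx _ ⟨y, hy, rfl⟩
    rw [ht] at hx
    exact ⟨⟨x, Subgroup.mem_centralizer_singleton_iff.2 hx.eq⟩ * y *
      ⟨x, Subgroup.mem_centralizer_singleton_iff.2 hx.eq⟩⁻¹, hN.conj_mem y hy _, rfl⟩
  · intro x hx
    rw [ht] at hx
    have hcomp' : N.IsComplement' (P₀ : Subgroup C) := by
      refine Subgroup.isComplement'_of_coprime (by rw [← hidx, Subgroup.card_mul_index]) ?_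
      obtain ⟨n, hn⟩ := IsPGroup.iff_card.1 P₀.2
      rw [hn]
      exact (Nat.coprime_two_right.2 hNodd).pow_right n
    obtain ⟨⟨⟨o, ho⟩, ⟨s, hs⟩⟩, he⟩ :=
      hcomp'.2 (⟨x, Subgroup.mem_centralizer_singleton_iff.2 hx.eq⟩ : C)
    exact ⟨o, ⟨o, ho, rfl⟩, s, hs, (congrArg Subtype.val he).symm⟩

end CfsgLib.SelfCentFour
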