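import Cfsg.Agent.Lib.SelfCentFour.Local
import Cfsg.Agent.Lib.SmallGroups.SimpleTools
import Cfsg.Agent.S3335

/-!
# Self-centralising elements of order four: recognition of the alternating group of degree seven

Two commuting conjugates of `W` and an involution inverting both give generators satisfying Carmichael's
presentation.
-/

set_option autoImplicit false
set_option linter.unusedSectionVars false

namespace CfsgLib.SelfCentFour

open CfsgLib.Involution CfsgLib.Involution.DihedralSylow CfsgLib.SmallGroups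

variable {G : Type*} [Group G] [Finite G]

theorem conj_zpow_fix {x w : G} (h : Commute x w) : x * w * x⁻¹ = w := by rw [h.eq, mul_inv_cancel_right]

/-- The elements of a group of order three. -/
theorem zpowers_three {a x : G} (ha : a ^ 3 = 1) (hx : x ∈ Subgroup.zpowers a) : x = 1 ∨ x = a ∨ x = a⁻¹ := by
  obtain ⟨i, rfl⟩ := Subgroup.mem_zpowers_iff.1 hx
  have h3 : a ^ (3 : ℤ) = 1 := by exact_mod_cast ha
  obtain ⟨q, rfl | rfl | rfl⟩ : ∃ q : ℤ, i = 3 * q ∨ i = 3 * q + 1 ∨ i = 3 * q + 2 := ⟨i / 3, by omega⟩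
  · exact Or.inl (by rw [zpow_mul, h3, one_zpow])
  · exact Or.inr (Or.inl (by rw [zpow_add, zpow_mul, h3, one_zpow, one_mul, zpow_one]))
  · refine Or.inr (Or.inr ?_)
    rw [zpow_add, zpow_mul, h3, one_zpow, one_mul]
    refine eq_inv_of_mul_eq_one_left ?_
    rw [zpow_ofNat, ← pow_succ]; exact ha

/-- Generators with Carmichael's relations. -/
theorem iso_seven_of_relations (hcard : Nat.card G = 2520) (g u x y b : G) (hg1 : g ≠ 1)
    (c1 : g ^ 3 = 1) (c2 : u ^ 2 = 1) (c3 : x ^ 2 = 1) (c4 : y ^ 2 = 1) (c5 : b ^ 2 = 1)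
    (n1 : (g * u) ^ 3 = 1) (n2 : (u * x) ^ 3 = 1) (n3 : (x * y) ^ 3 = 1) (n4 : (y * b) ^ 3 = 1)
    (f1 : (g * x) ^ 2 = 1) (f2 : (g * y) ^ 2 = 1) (f3 : (g * b) ^ 2 = 1) (f4 : (u * y) ^ 2 = 1)
    (f5 : (u * b) ^ 2 = 1) (f6 : (x * b) ^ 2 = 1) :
    Nonempty (G ≃* alternatingGroup (Fin 7)) := by
  obtain ⟨e⟩ := Cfsg.Agent.S3335.result 7 (by norm_num)
  let f : Fin (7 - 2) → G := ![g, u, x, y, b]
  let φ : alternatingGroup (Fin 7) →* G :=
    (PresentedGroup.toGroup (f := f) (by
      rintro r (((⟨i, hi, rfl⟩ | ⟨i, hi, rfl⟩) | ⟨i, j, hij, rfl⟩) | ⟨i, j, hij, rfl⟩)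
      · rw [map_pow, FreeGroup.lift_apply_of]
        obtain rfl : i = ⟨0, by norm_num⟩ := Fin.ext hi
        exact c1
      · rw [map_pow, FreeGroup.lift_apply_of]
        fin_cases i <;> first
          | exact c2 | exact c3 | exact c4 | exact c5
          | (exfalso; revert hi; decide)
      · rw [map_pow, map_mul, FreeGroup.lift_apply_of, FreeGroup.lift_apply_of]
        fin_cases i <;> fin_cases j <;> first
          | exact n1 | exact n2 | exact n3 | exact n4
          | (exfalso; revert hij; decide)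
      · rw [map_pow, map_mul, FreeGroup.lift_apply_of, FreeGroup.lift_apply_of]
        fin_cases i <;> fin_cases j <;> first
          | exact f1 | exact f2 | exact f3 | exact f4 | exact f5 | exact f6
          | (exfalso; revert hij; decide))).comp e.symm.toMonoidHom
  have hne : φ.ker ≠ ⊤ := by
    intro h
    have hx : e (PresentedGroup.of (⟨0, by norm_num⟩ : Fin (7 - 2))) ∈ φ.ker := h ▸ Subgroup.mem_top _
    rw [MonoidHom.mem_ker, MonoidHom.comp_apply, MulEquiv.coe_toMonoidHom, MulEquiv.symm_apply_apply,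
      PresentedGroup.toGroup.of] at hx
    exact hg1 hx
  have hinj : Function.Injective φ := by
    have : IsSimpleGroup (alternatingGroup (Fin 7)) := alternatingGroup.isSimpleGroup (by simp)
    exact (MonoidHom.ker_eq_bot_iff φ).1
      ((inferInstance : φ.ker.Normal).eq_bot_or_eq_top.resolve_right hne)
  have hc : Nat.card (alternatingGroup (Fin 7)) = Nat.card G := by
    rw [nat_card_alternatingGroup, Nat.card_fin, hcard]; rfl
  exact ⟨(MulEquiv.ofBijective φ ((Nat.bijective_iff_injective_and_card φ).2 ⟨hinj, hc⟩)).symm⟩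

variable [IsSimpleGroup G] {P : Sylow 2 G} {σ τ : G} {O : Subgroup G}

/-- The case `|W| = 3`, `|X / W| = 12`. -/
theorem Setup.iso_seven_of_small (S : Setup P σ τ O) (hO : O = W O τ) (h3 : Nat.card (W O τ) = 3)
    (h36 : Nat.card (X O τ) = 36) (hcard : Nat.card G = 2520) :
    Nonempty (G ≃* alternatingGroup (Fin 7)) := by
  classical
  have : Fact (Nat.Prime 3) := ⟨Nat.prime_three⟩
  obtain ⟨w, hw, hw1⟩ : ∃ w ∈ W O τ, w ≠ 1 := by
    by_contra h
    push Not at h
    rw [Subgroup.eq_bot_iff_forall _ |>.2 h, Subgroup.card_bot] at h3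
    omega
  obtain ⟨hwz, hwX, V, L, htV⟩ := S.exists_loc hO h3 h36 hw hw1
  have hwO : w ∈ O := (mem_W.1 hw).1
  have hw3 : w ^ 3 = 1 := by
    rw [← h3]
    exact congrArg Subtype.val (pow_card_eq_one' (x := (⟨w, hw⟩ : W O τ)))
  have hwinv : w⁻¹ ≠ w := fun e => hw1 (eq_one_of_sq_cube (by nth_rewrite 1 [← e]; exact inv_mul_cancel w) hw3)
  have hσw : σ * w * σ⁻¹ = w⁻¹ := S.inverts hwO
  -- the Sylow subgroup
  have hWp : IsPGroup 3 (W O τ) := IsPGroup.of_card (n := 1) (by rw [h3]; norm_num)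
  obtain ⟨PE, hPE⟩ := hWp.exists_le_sylow
  set E : Subgroup G := (PE : Subgroup G) with hE
  have hE9 : Nat.card E = 9 :=
    SimpleTools.card_sylow_subgroup (m := 280) (k := 2) (by rw [hcard]; norm_num) (by norm_num) PE
  have hEc' : IsMulCommutative E :=
    IsPGroup.isMulCommutative_of_card_eq_prime_sq (p := 3) (by rw [hE9]; norm_num)
  have hEc : ∀ {a c : G}, a ∈ E → c ∈ E → Commute a c := fun {a c} ha hc =>
    congrArg Subtype.val (hEc'.is_comm.comm ⟨a, ha⟩ ⟨c, hc⟩)
  have hwE : w ∈ E := hPE hw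
  have hEX : E ≤ X O τ := fun e he => (hwX e).1 (hEc he hwE)
  have hE_pow : ∀ {e : G}, e ∈ E → e ^ 9 = 1 := fun {e} he => by
    rw [← hE9]; exact congrArg Subtype.val (pow_card_eq_one' (x := (⟨e, he⟩ : E)))
  have hnine : ∀ H : Subgroup G, E ≤ H → H ≤ X O τ → (∀ j ∈ H, j * j = 1 → j = 1) → H = E := by
    intro H hEH hHX hj
    refine (Subgroup.eq_of_le_of_card_ge hEH ?_).symm
    have d1 := Subgroup.card_dvd_of_le hEH
    have d2 := Subgroup.card_dvd_of_le hHX
    rw [hE9] at d1 ⊢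
    rw [h36] at d2
    have d3 : ¬ 2 ∣ Nat.card H := by
      intro h
      have : Fact (Nat.Prime 2) := ⟨Nat.prime_two⟩
      obtain ⟨j, hj2⟩ := exists_prime_orderOf_dvd_card' 2 h
      have hje : (j : G) * j = 1 := by
        rw [← pow_two, ← hj2, Subgroup.orderOf_coe j |>.symm]; exact pow_orderOf_eq_one _
      have := hj j j.2 hje
      rw [← Subgroup.orderOf_coe, this, orderOf_one] at hj2
      omega
    obtain ⟨r, hr⟩ := d1
    rw [hr] at d2 d3 ⊢
    have h4 : r ∣ 4 := Nat.dvd_of_mul_dvd_mul_left (show 0 < 9 by norm_num) d2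
    have hr4 : r ≤ 4 := Nat.le_of_dvd (by norm_num) h4
    interval_cases r <;> omega
  have hne_sub : ∀ {j : G}, j ∈ V → (∀ e ∈ E, Commute j e) → j = 1 := by
    intro j hjV hje
    by_contra hj1
    have hsub : E ≤ Subgroup.zpowers w := by
      intro e he
      have hew : Commute e w := hEc he hwE
      have h6 := L.six j hjV hj1 e (hje e he).symm hew
      have he3 : e ^ 3 = 1 := eq_one_of_sq_cube (L.sq _ h6) (by rw [← pow_mul]; exact hE_pow he)
      exact L.three j hjV hj1 e (hje e he).symm he3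
    have h := Subgroup.card_dvd_of_le hsub
    rw [hE9, ← hwz, h3] at h
    norm_num at h
  -- the normaliser of `E` meets `X` in `E`
  set NE : Subgroup G := Subgroup.normalizer (E : Set G) with hNE
  have hXN : X O τ ⊓ NE = E := by
    refine hnine _ (le_inf hEX Subgroup.le_normalizer) inf_le_left fun j hj hj2 => ?_
    obtain ⟨hjX, hjN⟩ := Subgroup.mem_inf.1 hj
    have hjV : j ∈ V := L.inv_mem j hj2 ((hwX j).2 hjX)
    refine hne_sub hjV fun e he => ?_
    have hE' : j * e * j⁻¹ * e⁻¹ ∈ E := mul_mem ((Subgroup.mem_normalizer_iff.1 hjN e).1 he) (inv_mem he)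
    have hV' : j * e * j⁻¹ * e⁻¹ ∈ V := by
      rw [show j * e * j⁻¹ * e⁻¹ = j * (e * j⁻¹ * e⁻¹) by group]
      exact mul_mem hjV (L.norm (Or.inl (conj_zpow_fix (hEc he hwE))) (inv_mem hjV))
    have h1 : j * e * j⁻¹ * e⁻¹ = 1 := by
      have h2 := L.sq _ hV'
      have h9 := hE_pow hE'
      rw [show (9 : ℕ) = 2 * 4 + 1 from rfl, pow_succ, pow_mul, pow_two, h2, one_pow, one_mul] at h9
      exact h9
    exact mul_inv_eq_iff_eq_mul.1 (mul_inv_eq_one.1 h1)
  -- the conjugates of `w` in `E`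
  let f : NE → {y : G // y ∈ E ∧ IsConj w y} := fun h =>
    ⟨h * w * (h : G)⁻¹, (Subgroup.mem_normalizer_iff.1 h.2 w).1 hwE, isConj_iff.2 ⟨h, rfl⟩⟩
  have hfsurj : Function.Surjective f := by
    rintro ⟨y, hyE, hy⟩
    obtain ⟨x, rfl⟩ := isConj_iff.1 hy
    have : IsMulCommutative (PE : Subgroup G) := hEc'
    obtain ⟨n, hn, hn'⟩ := PE.conj_eq_normalizer_conj_of_mem w x⁻¹ hwE (by rwa [inv_inv])
    rw [inv_inv] at hn'
    exact ⟨⟨n⁻¹, inv_mem hn⟩, Subtype.ext (by simp only [f, inv_inv]; exact hn'.symm)⟩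
  let K : Subgroup NE := (X O τ).subgroupOf NE
  have hK : Nat.card K = 9 := by
    show Nat.card ((X O τ).subgroupOf NE) = 9
    rw [← Subgroup.inf_subgroupOf_right, Nat.card_congr (Subgroup.subgroupOfEquivOfLe inf_le_right).toEquiv,
      hXN, hE9]
  have hfib : ∀ a c : NE, f a = f c ↔ a⁻¹ * c ∈ K := by
    intro a c
    rw [Subgroup.mem_subgroupOf, ← hwX, Subtype.ext_iff]
    show (a : G) * w * (a : G)⁻¹ = c * w * (c : G)⁻¹ ↔ Commute ((a : G)⁻¹ * c) w
    constructor
    · intro h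
      refine mul_inv_eq_iff_eq_mul.1 ?_
      calc (a : G)⁻¹ * c * w * ((a : G)⁻¹ * c)⁻¹ = (a : G)⁻¹ * (c * w * (c : G)⁻¹) * a := by group
        _ = w := by rw [← h]; group
    · intro h
      calc (a : G) * w * (a : G)⁻¹ = a * ((a : G)⁻¹ * c * w * ((a : G)⁻¹ * c)⁻¹) * (a : G)⁻¹ := by
            rw [conj_zpow_fix h]
        _ = c * w * (c : G)⁻¹ := by group
  have hcardΩ : Nat.card NE = Nat.card {y : G // y ∈ E ∧ IsConj w y} * 9 := by
    rw [← hK, Subgroup.card_eq_card_quotient_mul_card_subgroup K]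
    congr 1
    refine Nat.card_eq_of_bijective (Quotient.lift f fun a c h => (hfib a c).2 (QuotientGroup.leftRel_apply.1 h))
      ⟨?_, ?_⟩
    · intro p q h
      induction p using Quotient.inductionOn with
      | _ a =>
        induction q using Quotient.inductionOn with
        | _ c => exact Quotient.sound (QuotientGroup.leftRel_apply.2 ((hfib a c).1 h))
    · intro y
      obtain ⟨a, ha⟩ := hfsurj y
      exact ⟨Quotient.mk _ a, ha⟩
  obtain ⟨hh, hhe⟩ := hfsurj ⟨w⁻¹, inv_mem hwE, isConj_iff.2 ⟨σ, hσw⟩⟩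
  have hhw : (hh : G) * w * (hh : G)⁻¹ = w⁻¹ := congrArg Subtype.val hhe
  set h : G := (hh : G) with hhd
  have hh2 : Commute (h * h) w := mul_inv_eq_iff_eq_mul.1 (by
    calc h * h * w * (h * h)⁻¹ = h * (h * w * h⁻¹) * h⁻¹ := by group
      _ = h * w⁻¹ * h⁻¹ := by rw [hhw]
      _ = (h * w * h⁻¹)⁻¹ := by group
      _ = w := by rw [hhw, inv_inv])
  have hd4 : Nat.card {y : G // y ∈ E ∧ IsConj w y} = 4 := by
    set d := Nat.card {y : G // y ∈ E ∧ IsConj w y} with hd
    have h2 : 2 ≤ d := by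
      rw [hd, Nat.succ_le_iff, Finite.one_lt_card_iff_nontrivial]
      exact ⟨⟨w, hwE, IsConj.refl w⟩, ⟨w⁻¹, inv_mem hwE, isConj_iff.2 ⟨σ, hσw⟩⟩,
        fun e => hwinv (congrArg Subtype.val e).symm⟩
    have h8 : d ≤ 8 := by
      have hlt : d < 9 := by
        haveI := Fintype.ofFinite G
        rw [hd, ← hE9, Nat.card_eq_fintype_card, Nat.card_eq_fintype_card]
        refine Fintype.card_lt_of_injective_of_notMem (fun y => (⟨y.1, y.2.1⟩ : E))
          (fun a c e => Subtype.ext (congrArg Subtype.val e :)) (b := 1) ?_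
        rintro ⟨⟨y, hyE, hy⟩, e⟩
        have e' : y = 1 := congrArg Subtype.val e
        subst e'
        exact hw1 (isConj_one_left.1 hy)
      omega
    have hdvd : d * 9 * Nat.card (Sylow 3 G) = 2520 := by
      rw [← hcardΩ, mul_comm, hNE, hE, SimpleTools.card_normalizer_mul PE, hcard]
    have hmod : Nat.card (Sylow 3 G) % 3 = 1 := card_sylow_modEq_one 3 G
    have heven : 2 ∣ d := by
      have h2' : 2 ∣ Nat.card NE := by
        refine dvd_trans ?_ (orderOf_dvd_natCard hh)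
        by_contra hodd
        obtain ⟨k, hk⟩ : Odd (orderOf hh) := by rwa [Nat.odd_iff, ← Nat.two_dvd_ne_zero]
        refine hwinv ?_
        have hc : Commute h w := by
          have h1 : h = (h * h) ^ (k + 1) := by
            have h0 : h ^ (2 * k + 1) = 1 := by
              rw [← hk, hhd, ← Subgroup.orderOf_coe]; exact pow_orderOf_eq_one _
            rw [← pow_two, ← pow_mul, show 2 * (k + 1) = 2 * k + 1 + 1 by ring, pow_succ, h0, one_mul]
          rw [h1]; exact hh2.pow_left _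
        rw [conj_zpow_fix hc] at hhw
        exact hhw.symm
      rw [hcardΩ] at h2'
      exact (Nat.Coprime.dvd_of_dvd_mul_right (by norm_num) h2')
    interval_cases d <;> omega
  -- the involution
  have hh2E : h * h ∈ E := hXN ▸ Subgroup.mem_inf.2 ⟨(hwX _).1 hh2, mul_mem hh.2 hh.2⟩
  set b : G := h ^ 9 with hbd
  have hbb : b * b = 1 := by
    rw [hbd, ← pow_add, show 9 + 9 = 2 * 9 from rfl, pow_mul, pow_two, hE_pow hh2E]
  have hbw : b * w * b⁻¹ = w⁻¹ := by
    rw [hbd, show (9 : ℕ) = 2 * 4 + 1 from rfl, pow_succ', pow_mul, pow_two, mul_inv_rev,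
      show h * (h * h) ^ 4 * w * (((h * h) ^ 4)⁻¹ * h⁻¹) = h * ((h * h) ^ 4 * w * ((h * h) ^ 4)⁻¹) * h⁻¹ by group,
      conj_zpow_fix (hh2.pow_left 4), hhw]
  have hbN : b ∈ NE := pow_mem hh.2 9
  have hbnc : ¬ Commute b w := fun hc => hwinv ((conj_zpow_fix hc).symm.trans hbw).symm
  -- the second conjugate
  obtain ⟨g, hgE, hgconj, hgw, hgw'⟩ : ∃ g, g ∈ E ∧ IsConj w g ∧ g ≠ w ∧ g ≠ w⁻¹ := by
    by_contra hno
    push Not at hno
    have hle : Nat.card {y : G // y ∈ E ∧ IsConj w y} ≤ Nat.card ({w, w⁻¹} : Finset G) :=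
      Nat.card_le_card_of_injective (fun y => ⟨y.1, by
        by_cases e : y.1 = w
        · simp [e]
        · simp [hno y.1 y.2.1 y.2.2 e]⟩) fun a c e => Subtype.ext (congrArg Subtype.val e :)
    rw [hd4, Nat.card_eq_finsetCard] at hle
    have := Finset.card_le_two (a := w) (b := w⁻¹)
    omega
  obtain ⟨x, hx⟩ := isConj_iff.1 hgconj
  have hg3 : g ^ 3 = 1 := by rw [← hx, conj_pow, hw3]; group
  have hg1 : g ≠ 1 := fun e => hw1 (conj_eq_one_iff.1 (hx.trans e))
  have hginv : g⁻¹ ≠ g := fun e => hg1 (eq_one_of_sq_cube (by nth_rewrite 1 [← e]; exact inv_mul_cancel g) hg3)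
  have hgw2 : g⁻¹ ≠ w := fun e => hgw' (by rw [← e, inv_inv])
  have hginvconj : IsConj w g⁻¹ :=
    (isConj_iff.2 ⟨σ, hσw⟩ : IsConj w w⁻¹).trans (isConj_iff.2 ⟨x, by rw [← hx]; group⟩)
  have hΩ : ∀ y, y ∈ E → IsConj w y → y = w ∨ y = w⁻¹ ∨ y = g ∨ y = g⁻¹ := by
    intro y hyE hy
    by_contra hno
    push Not at hno
    obtain ⟨e1, e2, e3, e4⟩ := hno
    have h5 : ({y, w, w⁻¹, g, g⁻¹} : Finset G).card = 5 := by
      rw [Finset.card_insert_of_notMem (by simp [e1, e2, e3, e4]),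
        Finset.card_insert_of_notMem (by simp [hwinv.symm, hgw.symm, hgw2.symm]),
        Finset.card_insert_of_notMem (by simp [hgw'.symm, hgw.symm]),
        Finset.card_pair hginv.symm]
    have hle : Nat.card ({y, w, w⁻¹, g, g⁻¹} : Finset G) ≤ Nat.card {y : G // y ∈ E ∧ IsConj w y} := by
      refine Nat.card_le_card_of_injective (fun z => ⟨z.1, ?_⟩) fun a c e => Subtype.ext (congrArg Subtype.val e :)
      have := z.2
      simp only [Finset.mem_insert, Finset.mem_singleton] at this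
      rcases this with e | e | e | e | e <;> rw [e]
      exacts [⟨hyE, hy⟩, ⟨hwE, IsConj.refl w⟩, ⟨inv_mem hwE, isConj_iff.2 ⟨σ, hσw⟩⟩, ⟨hgE, hgconj⟩,
        ⟨inv_mem hgE, hginvconj⟩]
    rw [Nat.card_eq_finsetCard, h5, hd4] at hle
    omega
  have hgnot : g ∉ Subgroup.zpowers w := fun hm => by
    rcases zpowers_three hw3 hm with e | e | e
    exacts [hg1 e, hgw e, hgw' e]
  have hwnot : w ∉ Subgroup.zpowers g := fun hm => by
    rcases zpowers_three hg3 hm with e | e | e
    exacts [hw1 e, hgw e.symm, hgw2 e.symm]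
  have hgwc : Commute g w := hEc hgE hwE
  obtain ⟨V', L'⟩ : ∃ V', Loc g V' := ⟨_, hx ▸ L.conj x⟩
  -- the centraliser of `w` and `g`
  have hCwg : ∀ y : G, Commute y w → Commute y g → y ∈ E := by
    intro y hyw hyg
    have hXg : X O τ ⊓ Subgroup.centralizer ({g} : Set G) = E := by
      refine hnine _ (le_inf hEX fun e he => Subgroup.mem_centralizer_singleton_iff.2 (hEc he hgE).eq)
        inf_le_left fun j hj hj2 => ?_
      obtain ⟨hjX, hjg⟩ := Subgroup.mem_inf.1 hj
      have hjV : j ∈ V := L.inv_mem j hj2 ((hwX j).2 hjX)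
      by_contra hj1
      exact L.moves hgnot hg3 hjV hj1 (Subgroup.mem_centralizer_singleton_iff.1 hjg).symm
    rw [← hXg]
    exact Subgroup.mem_inf.2 ⟨(hwX y).1 hyw, Subgroup.mem_centralizer_singleton_iff.2 hyg.eq⟩
  have hbg : b * g * b⁻¹ = g⁻¹ := by
    rcases hΩ _ ((Subgroup.mem_normalizer_iff.1 hbN g).1 hgE)
      (hgconj.trans (isConj_iff.2 ⟨b, rfl⟩)) with e | e | e | e
    · exfalso
      apply hgw'
      have h' : b * (b * g * b⁻¹) * b⁻¹ = w⁻¹ := by rw [e, hbw]
      rw [show b * (b * g * b⁻¹) * b⁻¹ = b * b * g * (b * b)⁻¹ by group, hbb] at h'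
      simpa using h'
    · exfalso
      apply hgw
      rw [← hbw, mul_left_inj, mul_right_inj] at e
      exact e
    · exfalso
      have hcb : Commute b g := mul_inv_eq_iff_eq_mul.1 e
      obtain ⟨u, hu, hu1, hub⟩ := L.exists_fixed hbb (Or.inr hbw)
      have hu' := L.norm (Or.inl (conj_zpow_fix hgwc)) hu
      refine hbnc (L.cent_two hu hu' hu1 (fun e => hu1 (conj_eq_one_iff.1 e))
        (fun e => L.moves hgnot hg3 hu hu1 (mul_inv_eq_iff_eq_mul.1 e.symm)) hub ?_)
      exact (hcb.mul_right hub).mul_right hcb.inv_right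
    · exact e
  obtain ⟨u, hu, hu1, hub⟩ := L.exists_fixed hbb (Or.inr hbw)
  obtain ⟨v, hv, hv1, hvb⟩ := L'.exists_fixed hbb (Or.inr hbg)
  have huu : u * u = 1 := L.sq u hu
  have hvv : v * v = 1 := L'.sq v hv
  have huw : Commute u w := L.le u hu
  have hvg : Commute v g := L'.le v hv
  -- the product of the two involutions
  have hkey : (u * v) ^ 3 = b := by
    have hb1 : b ≠ 1 := fun e => hbnc (by rw [e]; exact Commute.one_left w)
    obtain ⟨z, hz⟩ := isConj_iff.1 (S.hone (σ ^ 2) b S.t_order (orderOf_eq_prime (by rw [pow_two, hbb]) hb1))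
    have hback : ∀ {y : G}, Commute b y → Commute (z⁻¹ * y * z) (σ ^ 2) := by
      intro y hy
      have h' := hy.symm.map (MulAut.conj z⁻¹).toMonoidHom
      have e : z⁻¹ * b * z = σ ^ 2 := by rw [← hz]; group
      simpa [e] using h'
    have hsq : ∀ {y : G}, y * y = 1 → z⁻¹ * y * z * (z⁻¹ * y * z) = 1 := fun {y} hy => by
      rw [show z⁻¹ * y * z * (z⁻¹ * y * z) = z⁻¹ * (y * y) * z by group, hy]; group
    have hbzw : Commute b (z * w * z⁻¹) := by
      rw [← hz]; exact ((S.le w hwO).symm).map (MulAut.conj z).toMonoidHom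
    have hinv : ∀ {y a : G} {U : Subgroup G}, Loc a U → a ^ 3 = 1 → ¬ Commute b a → y ∈ U → y ≠ 1 →
        Commute b y → z⁻¹ * y * z * w * (z⁻¹ * y * z)⁻¹ = w⁻¹ := by
      intro y a U LU ha3 hba hy hy1 hby
      have hmem : z⁻¹ * y * z * w * (z⁻¹ * y * z)⁻¹ ∈ Subgroup.zpowers w := by
        rw [← hwz, ← hO]; exact S.norm _ (hback hby) w hwO
      rcases zpowers_three hw3 hmem with e | e | e
      · exact absurd (conj_eq_one_iff.1 e) hw1
      · exfalso
        have hc : Commute (z * w * z⁻¹) y := by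
          have h' := (show Commute (z⁻¹ * y * z) w from mul_inv_eq_iff_eq_mul.1 e).symm.map (MulAut.conj z).toMonoidHom
          simpa [mul_assoc] using h'
        rcases zpowers_three ha3 (LU.three y hy hy1 _ hc (by rw [conj_pow, hw3]; group)) with e' | e' | e'
        · exact hw1 (conj_eq_one_iff.1 e')
        · exact hba (e' ▸ hbzw)
        · exact hba (Commute.inv_right_iff.1 (e' ▸ hbzw))
      · exact e
    set u' := z⁻¹ * u * z with hu'
    set v' := z⁻¹ * v * z with hv'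
    have hbgnc : ¬ Commute b g := fun hc => hginv ((conj_zpow_fix hc).symm.trans hbg).symm
    have hiu : u' * w * u'⁻¹ = w⁻¹ := hinv L hw3 hbnc hu hu1 hub
    have hiv : v' * w * v'⁻¹ = w⁻¹ := hinv L' hg3 hbgnc hv hv1 hvb
    have hu2 : u' * u' = 1 := hsq huu
    have hv2 : v' * v' = 1 := hsq hvv
    set c := u' * v' with hc
    have hct : Commute c (σ ^ 2) := (hback hub).mul_left (hback hvb)
    have hcw : Commute c w := mul_inv_eq_iff_eq_mul.1 (by
      rw [hc, show u' * v' * w * (u' * v')⁻¹ = u' * (v' * w * v'⁻¹) * u'⁻¹ by group, hiv,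
        show u' * w⁻¹ * u'⁻¹ = (u' * w * u'⁻¹)⁻¹ by group, hiu, inv_inv])
    have ht1 : σ ^ 2 ≠ 1 := Dihedral.ne_one S.t_order
    have hs : c ^ 3 ∈ V := L.six _ htV ht1 c hct hcw
    have huc : u' * c ^ 3 * u'⁻¹ = (c ^ 3)⁻¹ := by
      have key : ∀ p q : G, p * p = 1 → q * q = 1 → p * (p * q) ^ 3 * p⁻¹ = ((p * q) ^ 3)⁻¹ := by
        intro p q hp hq
        rw [← conj_pow, ← inv_pow, mul_inv_rev, inv_eq_of_mul_eq_one_right hp, inv_eq_of_mul_eq_one_right hq,
          show p * (p * q) * p = p * p * q * p by group, hp, one_mul]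
      exact key u' v' hu2 hv2
    rw [inv_eq_of_mul_eq_one_right (L.sq _ hs), inv_eq_of_mul_eq_one_right hu2] at huc
    have hrel : (u * v) ^ 3 = z * c ^ 3 * z⁻¹ := by
      rw [hc, hu', hv', show z⁻¹ * u * z * (z⁻¹ * v * z) = z⁻¹ * (u * v) * (z⁻¹)⁻¹ by group, conj_pow]
      group
    by_cases hst : c ^ 3 = σ ^ 2
    · rw [hrel, hst, hz]
    by_cases hs1 : c ^ 3 = 1
    swap
    · exfalso
      have hc1 : Commute u' (c ^ 3) := by
        have h' := congrArg (· * u') huc
        simp only [mul_assoc, hu2, mul_one] at h'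
        exact h'
      have := L.cent_two htV hs ht1 hs1 (Ne.symm hst) (hback hub) hc1
      rw [conj_zpow_fix this] at hiu
      exact hwinv hiu.symm
    exfalso
    set r := u * v with hr
    have hr3 : r ^ 3 = 1 := by rw [hrel, hs1]; group
    have hv_eq : r * u * r⁻¹ = v := by
      have e1 : r⁻¹ = v * u := by
        rw [hr, mul_inv_rev, inv_eq_of_mul_eq_one_right huu, inv_eq_of_mul_eq_one_right hvv]
      have e2 : (r * r * r) * v⁻¹ = v := by
        rw [← pow_two, ← pow_succ, hr3, one_mul, inv_eq_of_mul_eq_one_right hvv]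
      rw [e1]
      nth_rewrite 2 [← e2]
      rw [hr]; group
    have hrrr : r * r * r = 1 := by rw [← pow_two, ← pow_succ]; exact hr3
    have hrinv : r⁻¹ = r * r := inv_eq_of_mul_eq_one_right (by rw [← mul_assoc]; exact hrrr)
    set g₁ := r * w * r⁻¹ with hg₁
    have hg₁v : Commute g₁ v := by
      rw [← hv_eq]; exact huw.symm.map (MulAut.conj r).toMonoidHom
    have hg₁g : g₁ = g ∨ g₁ = g⁻¹ := by
      rcases zpowers_three hg3 (L'.three v hv hv1 g₁ hg₁v (by rw [hg₁, conj_pow, hw3]; group)) with e | e | e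
      · exact absurd (conj_eq_one_iff.1 e) hw1
      · exact Or.inl e
      · exact Or.inr e
    have hg₁w : Commute g₁ w := by
      rcases hg₁g with e | e <;> rw [e]
      exacts [hgwc, hgwc.inv_left]
    have hg₁ne : g₁ ≠ w ∧ g₁ ≠ w⁻¹ := by
      rcases hg₁g with e | e <;> rw [e]
      exacts [⟨hgw, hgw'⟩, ⟨hgw2, fun e => hgw (inv_injective e)⟩]
    set w₂ := r * g₁ * r⁻¹ with hw₂
    have hw₂g₁ : Commute w₂ g₁ := by
      rw [hw₂]; exact hg₁w.map (MulAut.conj r).toMonoidHom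
    have hw₂w : Commute w₂ w := by
      have h' : Commute (r⁻¹ * w * r⁻¹⁻¹) (r⁻¹ * g₁ * r⁻¹⁻¹) := hg₁w.symm.map (MulAut.conj r⁻¹).toMonoidHom
      have e1 : r⁻¹ * w * r⁻¹⁻¹ = w₂ := by
        rw [hw₂, hg₁, show r * (r * w * r⁻¹) * r⁻¹ = r * r * w * (r * r)⁻¹ by group, ← hrinv]
      have e2 : r⁻¹ * g₁ * r⁻¹⁻¹ = w := by rw [hg₁]; group
      rwa [e1, e2] at h'
    have hw₂g : Commute w₂ g := by
      rcases hg₁g with e | e <;> rw [e] at hw₂g₁
      · exact hw₂g₁
      · exact Commute.inv_right_iff.1 hw₂g₁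
    have hw₂conj : IsConj w w₂ := isConj_iff.2 ⟨r * r, by rw [hw₂, hg₁]; group⟩
    have hr4 : ∀ a : G, r * (r * (r * a * r⁻¹) * r⁻¹) * r⁻¹ = a := fun a => by
      rw [show r * (r * (r * a * r⁻¹) * r⁻¹) * r⁻¹ = r * r * r * a * (r * r * r)⁻¹ by group, hrrr]; group
    have hback2 : r * w₂ * r⁻¹ = w := by rw [hw₂, hg₁]; exact hr4 w
    rcases hΩ w₂ (hCwg w₂ hw₂w hw₂g) hw₂conj with e | e | e | e
    · rw [e] at hback2
      exact hg₁ne.1 hback2
    · rw [e] at hback2
      apply hg₁ne.2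
      rw [hg₁]
      nth_rewrite 2 [← hback2]
      group
    all_goals
      have hcases : w₂ = g₁ ∨ w₂ = g₁⁻¹ := by
        rcases hg₁g with e' | e' <;> rw [e, e'] <;> simp
      rcases hcases with e' | e'
      · rw [e'] at hback2
        rw [← hw₂, e'] at hback2
        exact hg₁ne.1 hback2
      · rw [e'] at hback2
        have h' : r * g₁⁻¹ * r⁻¹ = w₂⁻¹ := by rw [hw₂]; group
        rw [h', e', inv_inv] at hback2
        exact hg₁ne.1 hback2
  -- the relations
  have hgu := L.mul_pow_three hgwc hgnot hg3 hu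
  have hwv := L'.mul_pow_three hgwc.symm hwnot hw3 hv
  have hbgb : b * g * b = g⁻¹ := by
    nth_rewrite 2 [← inv_eq_of_mul_eq_one_right hbb]; exact hbg
  have hbwb : b * w * b = w⁻¹ := by
    nth_rewrite 2 [← inv_eq_of_mul_eq_one_right hbb]; exact hbw
  have hgb : g * b * (g * b) = 1 := by rw [show g * b * (g * b) = g * (b * g * b) by group, hbgb, mul_inv_cancel]
  have hbwsq : b * w * (b * w) = 1 := by
    rw [show b * w * (b * w) = (b * w * b) * w by group, hbwb, inv_mul_cancel]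
  refine iso_seven_of_relations hcard g u (b * v) (b * w) b hg1 hg3 (by rw [pow_two, huu]) ?_ ?_
    (by rw [pow_two, hbb]) hgu ?_ ?_ ?_ ?_ ?_ ?_ ?_ ?_ ?_
  · rw [hvb.mul_pow, pow_two, hbb, pow_two, hvv, one_mul]
  · rw [pow_two, hbwsq]
  · -- `(u b v)³`
    have hcb : Commute b (u * v) := hub.mul_right hvb
    rw [show u * (b * v) = b * (u * v) by rw [← mul_assoc, ← hub.eq, mul_assoc], hcb.mul_pow, hkey, pow_succ,
      pow_two, hbb, one_mul, hbb]
  · -- `(b v b w)³`
    rw [show b * v * (b * w) = b * v * b * w by group, hvb.eq, mul_assoc v b b, hbb, mul_one,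
      show v * w = w⁻¹ * (w * v) * w⁻¹⁻¹ by group, conj_pow, hwv]
    group
  · rw [hbwb, inv_pow, hw3, inv_one]
  · rw [show g * (b * v) = g * b * v by group, (Commute.mul_left hvg.symm hvb).mul_pow, pow_two, hgb, pow_two,
      hvv, one_mul]
  · rw [pow_two, show g * (b * w) * (g * (b * w)) = g * b * w * g * (b * w) by group, mul_assoc (g * b) w g,
      hgwc.symm.eq, show g * b * (g * w) * (b * w) = g * b * g * (w * (b * w)) by group,
      show g * b * g = b by
        calc g * b * g = g * b * (g * b) * b⁻¹ := by group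
          _ = b := by rw [hgb, one_mul]; exact inv_eq_of_mul_eq_one_right hbb]
    rw [← mul_assoc, hbwsq]
  · rw [pow_two, hgb]
  · rw [(hub.symm.mul_right huw).mul_pow, pow_two, huu, pow_two, hbwsq, one_mul]
  · rw [hub.symm.mul_pow, pow_two, huu, pow_two, hbb, one_mul]
  · rw [hvb.eq, mul_assoc, hbb, mul_one, pow_two, hvv]

end CfsgLib.SelfCentFour
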